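import Groth.Agent.IsoAutLib.Axes
import Groth.Agent.IsoNatClean.Transfer
/-!
Commutative automorphism groups are read off from the presheaf of classes.
-/

set_option autoImplicit false
set_option backward.isDefEq.respectTransparency false
set_option backward.isDefEq.respectTransparency.types false
set_option linter.unusedSectionVars false

universe u

open CategoryTheory CategoryTheory.Limits AlgebraicGeometry

namespace Groth.Agent.IsoAutLib

open Groth.Agent.ASt Groth.Agent.RepOne Groth.Agent.IsoNatClean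

variable {S : Scheme.{u}} {𝒳 𝒴 : AlgSt.Cat S} [h𝒳 : FibCat.IsFibGrpd 𝒳.p] [h𝒴 : FibCat.IsFibGrpd 𝒴.p]
  {B : Over S}

theorem inj01 : Function.Injective (![0, 1] : Fin 2 → Fin 3) := by decide

theorem inj02 : Function.Injective (![0, 2] : Fin 2 → Fin 3) := by decide

theorem inj12 : Function.Injective (![1, 2] : Fin 2 → Fin 3) := by decide

/-- The class on three doubled axes is determined by two of its faces. -/
def TwoFaces (e : ClType 𝒳 B) : Prop :=
  ∀ z z' : ClType 𝒳 (dbl B 3).X, IsK e 3 z → IsK e 3 z' →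
    clMap (dblMap B _ inj01).F z = clMap (dblMap B _ inj01).F z' →
    clMap (dblMap B _ inj02).F z = clMap (dblMap B _ inj02).F z' → z = z'

section One

variable {y : FibCat.overCat B ⥤ᵇ 𝒳} (hst : Stk.IsStack (AlgSp.J S) 𝒳)
  (hd : AlgSt.RepByAlgSpWith (AlgSp.IsSeparatedMor ⊓ AlgSp.IsQuasiCompactMor)
    (FibCat.diag (FibCat.toSelf 𝒳)))

include hst hd in
theorem commute_iff_twoFaces :
    (∀ a b : AB y, a * b = b * a) ↔ TwoFaces (Doubled.base0 y) := by
  constructor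
  · intro hc z z' hz hz' e1 e2
    letI : CommGroup (AB y) := { (inferInstance : Group (AB y)) with mul_comm := hc }
    obtain ⟨s, hs⟩ := exists_of_isK hst hz
    obtain ⟨s', hs'⟩ := exists_of_isK hst hz'
    obtain ⟨a, b, hab⟩ := (psi_eq_iff hst hd (psi_map hs _ inj01) (psi_map hs' _ inj01)).1 e1
    obtain ⟨a', b', hab'⟩ := (psi_eq_iff hst hd (psi_map hs _ inj02) (psi_map hs' _ inj02)).1 e2
    refine (psi_eq_iff hst hd hs hs').2 ⟨a, b, fun i => ?_⟩
    have h0 : s 0 * b = a * s' 0 := hab 0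
    have h1 : s 1 * b = a * s' 1 := hab 1
    have h0' : s 0 * b' = a' * s' 0 := hab' 0
    have h2' : s 2 * b' = a' * s' 2 := hab' 1
    fin_cases i
    · exact h0
    · exact h1
    · change s 2 * b = a * s' 2
      have e : s 0 * b * (s 2 * b') * (a' * s' 0) = a * s' 0 * (a' * s' 2) * (s 0 * b') := by rw [h0, h2', h0']
      refine mul_right_cancel (b := s 0 * b' * (a' * s' 0)) ?_
      calc s 2 * b * (s 0 * b' * (a' * s' 0)) = s 0 * b * (s 2 * b') * (a' * s' 0) := by ac_rfl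
        _ = a * s' 0 * (a' * s' 2) * (s 0 * b') := e
        _ = a * s' 2 * (s 0 * b' * (a' * s' 0)) := by ac_rfl
  · intro h g t
    obtain ⟨z, hz⟩ := exists_psi hst ![1, t, t]
    obtain ⟨z', hz'⟩ := exists_psi hst ![1, t, g * t * g⁻¹]
    have := h z z' (psi_isK hst hz) (psi_isK hst hz')
      ((psi_eq_iff hst hd (psi_map hz _ inj01) (psi_map hz' _ inj01)).2 ⟨1, 1, fun i => by fin_cases i <;> simp⟩)
      ((psi_eq_iff hst hd (psi_map hz _ inj02) (psi_map hz' _ inj02)).2 ⟨g⁻¹, g⁻¹, fun i => by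
        fin_cases i
        · change (1 : AB y) * g⁻¹ = g⁻¹ * 1
          simp
        · change t * g⁻¹ = g⁻¹ * (g * t * g⁻¹)
          simp [mul_assoc]⟩)
    obtain ⟨a, b, hab⟩ := (psi_eq_iff hst hd hz hz').1 this
    have h0 : (1 : AB y) * b = a * 1 := hab 0
    have h1 : t * b = a * t := hab 1
    have h2 : t * b = a * (g * t * g⁻¹) := hab 2
    have h3 : t = g * t * g⁻¹ := mul_left_cancel (h1.symm.trans h2)
    exact (eq_mul_inv_iff_mul_eq.1 h3).symm

include hst hd in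
theorem pair_injective (hc : ∀ a b : AB y, a * b = b * a) {s t : AB y} {z : ClType 𝒳 (dbl B 2).X}
    (hs : Psi y ![1, s] z) (ht : Psi y ![1, t] z) : s = t := by
  obtain ⟨a, b, hab⟩ := (psi_eq_iff hst hd hs ht).1 rfl
  have h0 : (1 : AB y) * b = a * 1 := hab 0
  have h1 : s * b = a * t := hab 1
  rw [one_mul, mul_one] at h0
  rw [h0, hc s a] at h1
  exact mul_left_cancel h1

include hst hd in
theorem exists_pair {z : ClType 𝒳 (dbl B 2).X} (h : IsK (Doubled.base0 y) 2 z) :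
    ∃ t : AB y, Psi y ![1, t] z := by
  obtain ⟨s, hs⟩ := exists_of_isK hst h
  refine ⟨(s 0)⁻¹ * s 1, psi_shift hst hd hs (s 0) 1 fun i => ?_⟩
  fin_cases i
  · exact ((mul_one _).trans (mul_one _).symm)
  · change s 1 * 1 = s 0 * ((s 0)⁻¹ * s 1)
    simp

include hst hd in
theorem faces {u v : AB y} {z : ClType 𝒳 (dbl B 3).X} (h : Psi y ![1, u, v] z) :
    Psi y ![1, u] (clMap (dblMap B _ inj01).F z) ∧ Psi y ![1, v] (clMap (dblMap B _ inj02).F z) ∧
      Psi y ![1, u⁻¹ * v] (clMap (dblMap B _ inj12).F z) := by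
  refine ⟨?_, ?_, psi_shift hst hd (psi_map h _ inj12) u 1 fun i => ?_⟩
  · convert psi_map h _ inj01 using 1
    funext i
    fin_cases i <;> rfl
  · convert psi_map h _ inj02 using 1
    funext i
    fin_cases i <;> rfl
  · fin_cases i
    · exact ((mul_one _).trans (mul_one _).symm)
    · change v * 1 = u * (u⁻¹ * v)
      simp

end One

theorem isK_iff (φ : IsoNat.FIso 𝒳 𝒴) (e : ClType 𝒳 B) {m : ℕ} (z : ClType 𝒳 (dbl B m).X) :
    IsK e m z ↔ IsK (show ClType 𝒴 B from φ.toEquiv B e) m (φ.toEquiv _ z) := by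
  refine and_congr (forall_congr' fun s => ?_) (forall_congr' fun i => ?_) <;>
    rw [← toEquiv_clMap φ, ← toEquiv_clMap φ] <;> exact (φ.toEquiv _).injective.eq_iff.symm

theorem twoFaces_iff (φ : IsoNat.FIso 𝒳 𝒴) (e : ClType 𝒳 B) :
    TwoFaces e ↔ TwoFaces (show ClType 𝒴 B from φ.toEquiv B e) := by
  constructor
  · intro h z z' hz hz' e1 e2
    obtain ⟨x, rfl⟩ := (φ.toEquiv _).surjective z
    obtain ⟨x', rfl⟩ := (φ.toEquiv _).surjective z'
    rw [← toEquiv_clMap φ, ← toEquiv_clMap φ] at e1 e2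
    exact congrArg (φ.toEquiv _) (h x x' ((isK_iff φ e x).2 hz) ((isK_iff φ e x').2 hz')
      ((φ.toEquiv _).injective e1) ((φ.toEquiv _).injective e2))
  · intro h z z' hz hz' e1 e2
    refine (φ.toEquiv _).injective (h _ _ ((isK_iff φ e z).1 hz) ((isK_iff φ e z').1 hz') ?_ ?_)
    · rw [← toEquiv_clMap φ, ← toEquiv_clMap φ, e1]
    · rw [← toEquiv_clMap φ, ← toEquiv_clMap φ, e2]

section Two

variable {y : FibCat.overCat B ⥤ᵇ 𝒳} {y' : FibCat.overCat B ⥤ᵇ 𝒴}
  (φ : IsoNat.FIso 𝒳 𝒴) (hst : Stk.IsStack (AlgSp.J S) 𝒳) (hst' : Stk.IsStack (AlgSp.J S) 𝒴)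
  (hd : AlgSt.RepByAlgSpWith (AlgSp.IsSeparatedMor ⊓ AlgSp.IsQuasiCompactMor)
    (FibCat.diag (FibCat.toSelf 𝒳)))
  (hd' : AlgSt.RepByAlgSpWith (AlgSp.IsSeparatedMor ⊓ AlgSp.IsQuasiCompactMor)
    (FibCat.diag (FibCat.toSelf 𝒴)))
  (he : φ.toEquiv B (Doubled.base0 y) = Doubled.base0 y')

include φ hst hst' hd hd' he in
theorem commute_transfer : (∀ a b : AB y, a * b = b * a) ↔ ∀ a b : AB y', a * b = b * a := by
  rw [commute_iff_twoFaces hst hd, commute_iff_twoFaces hst' hd', twoFaces_iff φ]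
  exact iff_of_eq (congrArg TwoFaces he)

include φ hst hst' hd hd' he in
theorem nonempty_mulEquiv (hc : ∀ a b : AB y, a * b = b * a) : Nonempty (AB y ≃* AB y') := by
  have hc' := (commute_transfer φ hst hst' hd hd' he).1 hc
  have hk : ∀ {m : ℕ} (z : ClType 𝒳 (dbl B m).X), IsK (Doubled.base0 y) m z ↔
      IsK (Doubled.base0 y') m (φ.toEquiv _ z) := fun z => by
    rw [isK_iff φ]
    exact iff_of_eq (congrArg (fun e => IsK e _ _) he)
  have hθ : ∀ s : AB y, ∃ t : AB y', ∀ z, Psi y ![1, s] z → Psi y' ![1, t] (φ.toEquiv _ z) := fun s => by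
    obtain ⟨z, hz⟩ := exists_psi hst ![1, s]
    obtain ⟨t, ht⟩ := exists_pair hst' hd' ((hk z).1 (psi_isK hst hz))
    exact ⟨t, fun z' hz' => by rwa [(psi_eq_iff hst hd hz' hz).2 ⟨1, 1, fun i => by simp⟩]⟩
  choose θ hθ using hθ
  have key : ∀ u v : AB y, θ (u⁻¹ * v) = (θ u)⁻¹ * θ v := fun u v => by
    obtain ⟨z, hz⟩ := exists_psi hst ![1, u, v]
    obtain ⟨hu, hv, huv⟩ := faces hst hd hz
    obtain ⟨s, hs⟩ := exists_of_isK hst' ((hk z).1 (psi_isK hst hz))
    have hs' : Psi y' ![1, (s 0)⁻¹ * s 1, (s 0)⁻¹ * s 2] (φ.toEquiv _ z) := by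
      refine psi_shift hst' hd' hs (s 0) 1 fun i => ?_
      fin_cases i
      · exact ((mul_one _).trans (mul_one _).symm)
      · change s 1 * 1 = s 0 * ((s 0)⁻¹ * s 1)
        simp
      · change s 2 * 1 = s 0 * ((s 0)⁻¹ * s 2)
        simp
    obtain ⟨hu', hv', huv'⟩ := faces hst' hd' hs'
    have e : ∀ {σ : Fin 2 → Fin 3} (hσ : Function.Injective σ), φ.toEquiv _ (clMap (dblMap B σ hσ).F z) =
        clMap (dblMap B σ hσ).F (show ClType 𝒴 (dbl B 3).X from φ.toEquiv _ z) := fun hσ => toEquiv_clMap φ _ z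
    have a1 := hθ _ _ huv
    have a2 := hθ _ _ hu
    have a3 := hθ _ _ hv
    rw [e inj12] at a1
    rw [e inj01] at a2
    rw [e inj02] at a3
    rw [pair_injective hst' hd' hc' a1 huv', pair_injective hst' hd' hc' a2 hu', pair_injective hst' hd' hc' a3 hv']
  have h1 : θ 1 = 1 := by simpa using key 1 1
  have hi : ∀ u, θ u⁻¹ = (θ u)⁻¹ := fun u => by simpa [h1] using key u 1
  let θh : AB y →* AB y' :=
    { toFun := θ
      map_one' := h1
      map_mul' := fun u v => by simpa [hi] using key u⁻¹ v }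
  refine ⟨MulEquiv.ofBijective θh ⟨fun s t hst'' => ?_, fun t => ?_⟩⟩
  · obtain ⟨z, hz⟩ := exists_psi hst ![1, s]
    obtain ⟨z', hz'⟩ := exists_psi hst ![1, t]
    have e : φ.toEquiv _ z = φ.toEquiv _ z' := by
      refine (psi_eq_iff hst' hd' (hθ s z hz) (hθ t z' hz')).2 ⟨1, 1, fun i => ?_⟩
      rw [show θ s = θ t from hst'']
      simp
    rw [(φ.toEquiv _).injective e] at hz
    exact pair_injective hst hd hc hz hz'
  · obtain ⟨w, hw⟩ := exists_psi hst' ![1, t]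
    obtain ⟨z, rfl⟩ := (φ.toEquiv _).surjective w
    obtain ⟨s, hs⟩ := exists_pair hst hd ((hk z).2 (psi_isK hst' hw))
    exact ⟨s, pair_injective hst' hd' hc' (hθ s z hs) hw⟩

end Two

/-! ### Objects of the fibre -/

variable (η : 𝒳.p.Fiber B)

/-- The functor of pullbacks of an object of the fibre. -/
noncomputable abbrev fibY : FibCat.overCat B ⥤ᵇ 𝒳 := objFun η.1 η.2

theorem base0_fibY : Doubled.base0 (fibY η) = IsoNat.cls η :=
  (show clMap (𝟙 B) (cl η.1 η.2) = cl η.1 η.2 from clMap_id _)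

theorem aut_equiv : Nonempty (Aut η ≃* AB (fibY η)) := by
  let J : (fibY η).obj (ov (𝟙 B)) ⟶ η.1 := pullHom η.1 η.2 (𝟙 B)
  have hJ : 𝒳.p.map J = eqToHom (pull_base η.1 η.2 (𝟙 B)) ≫ 𝟙 B ≫ eqToHom η.2.symm := map_pullHom _ _ _
  haveI : IsIso (𝒳.p.map J) := by rw [hJ]; infer_instance
  haveI : IsIso J := isIso_of_isIso_map J
  have hv : ∀ f : η ⟶ η, 𝒳.p.map f.1 = 𝟙 _ := fun f => by
    haveI := f.2
    simpa using map_of_isHomLift_id (R := B) f.1
  let ψ : Aut η →* AB (fibY η) :=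
    { toFun := fun f => ⟨J ≫ f.inv.1 ≫ inv J, by simp [hv]⟩
      map_one' := AutG.ext (by
        change J ≫ 𝟙 _ ≫ inv J = 𝟙 _
        simp)
      map_mul' := fun f g => AutG.ext (by
        change J ≫ (f.inv.1 ≫ g.inv.1) ≫ inv J = (J ≫ f.inv.1 ≫ inv J) ≫ J ≫ g.inv.1 ≫ inv J
        simp) }
  refine ⟨MulEquiv.ofBijective ψ ⟨fun f g h => ?_, fun a => ?_⟩⟩
  · have h' : J ≫ f.inv.1 ≫ inv J = J ≫ g.inv.1 ≫ inv J := congrArg AutG.hom h
    have : f.inv = g.inv := Subtype.ext ((cancel_mono (inv J)).1 ((cancel_epi J).1 h'))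
    exact Iso.ext (by rw [← IsIso.Iso.inv_inv f, ← IsIso.Iso.inv_inv g]; simp only [this])
  · let g : η.1 ⟶ η.1 := inv J ≫ a.hom ≫ J
    have hg : 𝒳.p.map g = eqToHom rfl := by simp [g, a.vert]
    haveI := isIso_of_vert g hg
    have hl : 𝒳.p.IsHomLift (𝟙 B) g := isHomLift_id_of_map g η.2 hg
    have hl' : 𝒳.p.IsHomLift (𝟙 B) (inv g) := inferInstance
    refine ⟨⟨⟨inv g, hl'⟩, ⟨g, hl⟩, Subtype.ext (IsIso.inv_hom_id g), Subtype.ext (IsIso.hom_inv_id g)⟩,
      AutG.ext ?_⟩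
    change J ≫ g ≫ inv J = a.hom
    simp [g]

theorem isAutAbelian_transfer (φ : IsoNat.FIso 𝒳 𝒴) (hst : Stk.IsStack (AlgSp.J S) 𝒳)
    (hst' : Stk.IsStack (AlgSp.J S) 𝒴)
    (hd : AlgSt.RepByAlgSpWith (AlgSp.IsSeparatedMor ⊓ AlgSp.IsQuasiCompactMor)
      (FibCat.diag (FibCat.toSelf 𝒳)))
    (hd' : AlgSt.RepByAlgSpWith (AlgSp.IsSeparatedMor ⊓ AlgSp.IsQuasiCompactMor)
      (FibCat.diag (FibCat.toSelf 𝒴)))
    (η' : 𝒴.p.Fiber B) (hη : φ.toEquiv B (IsoNat.cls η) = IsoNat.cls η') :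
    IsoNat.IsAutAbelian η ↔ IsoNat.IsAutAbelian η' := by
  have main : ∀ {V : Over S} (g : V ⟶ B) (x : 𝒳.p.Fiber V) (x' : 𝒴.p.Fiber V),
      IsoNat.cls x = clMap g (show ClType 𝒳 B from IsoNat.cls η) →
      IsoNat.cls x' = clMap g (show ClType 𝒴 B from IsoNat.cls η') →
      ((∀ s t : Aut x, s * t = t * s) ↔ ∀ s t : Aut x', s * t = t * s) := fun {V} g x x' h h' => by
    have he : φ.toEquiv V (Doubled.base0 (fibY x)) = Doubled.base0 (fibY x') := by
      rw [base0_fibY, base0_fibY, h, h', ← hη]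
      exact toEquiv_clMap φ g _
    obtain ⟨e⟩ := aut_equiv x
    obtain ⟨e'⟩ := aut_equiv x'
    have key := commute_transfer φ hst hst' hd hd' he
    constructor
    · intro hc s t
      refine e'.injective ?_
      rw [map_mul, map_mul]
      exact key.1 (fun a b => by
        obtain ⟨p, rfl⟩ := e.surjective a
        obtain ⟨q, rfl⟩ := e.surjective b
        rw [← map_mul, ← map_mul, hc]) _ _
    · intro hc s t
      refine e.injective ?_
      rw [map_mul, map_mul]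
      exact key.2 (fun a b => by
        obtain ⟨p, rfl⟩ := e'.surjective a
        obtain ⟨q, rfl⟩ := e'.surjective b
        rw [← map_mul, ← map_mul, hc]) _ _
  constructor
  · intro hab V x a
    let g : V ⟶ B := eqToHom x.2.symm ≫ 𝒴.p.map a ≫ eqToHom η'.2
    have hx : IsoNat.cls x = clMap g (show ClType 𝒴 B from IsoNat.cls η') :=
      (clMap_cl g a x.2 η'.2 (by simp [g])).symm
    exact (main g ⟨pull η.1 η.2 g, pull_base _ _ _⟩ x rfl hx).1
      (hab V ⟨pull η.1 η.2 g, pull_base _ _ _⟩ (pullHom η.1 η.2 g))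
  · intro hab V x a
    let g : V ⟶ B := eqToHom x.2.symm ≫ 𝒳.p.map a ≫ eqToHom η.2
    have hx : IsoNat.cls x = clMap g (show ClType 𝒳 B from IsoNat.cls η) :=
      (clMap_cl g a x.2 η.2 (by simp [g])).symm
    exact (main g x ⟨pull η'.1 η'.2 g, pull_base _ _ _⟩ hx rfl).2
      (hab V ⟨pull η'.1 η'.2 g, pull_base _ _ _⟩ (pullHom η'.1 η'.2 g))

theorem nonempty_aut_mulEquiv (φ : IsoNat.FIso 𝒳 𝒴) (hst : Stk.IsStack (AlgSp.J S) 𝒳)
    (hst' : Stk.IsStack (AlgSp.J S) 𝒴)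
    (hd : AlgSt.RepByAlgSpWith (AlgSp.IsSeparatedMor ⊓ AlgSp.IsQuasiCompactMor)
      (FibCat.diag (FibCat.toSelf 𝒳)))
    (hd' : AlgSt.RepByAlgSpWith (AlgSp.IsSeparatedMor ⊓ AlgSp.IsQuasiCompactMor)
      (FibCat.diag (FibCat.toSelf 𝒴)))
    (η' : 𝒴.p.Fiber B) (hη : φ.toEquiv B (IsoNat.cls η) = IsoNat.cls η') (hab : IsoNat.IsAutAbelian η) :
    Nonempty (Aut η ≃* Aut η') := by
  have he : φ.toEquiv B (Doubled.base0 (fibY η)) = Doubled.base0 (fibY η') := by
    rw [base0_fibY, base0_fibY]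
    exact hη
  obtain ⟨e⟩ := aut_equiv η
  obtain ⟨e'⟩ := aut_equiv η'
  obtain ⟨θ⟩ := nonempty_mulEquiv φ hst hst' hd hd' he fun a b => by
    obtain ⟨p, rfl⟩ := e.surjective a
    obtain ⟨q, rfl⟩ := e.surjective b
    rw [← map_mul, ← map_mul, hab B η (𝟙 _) p q]
  exact ⟨(e.trans θ).trans e'.symm⟩

end Groth.Agent.IsoAutLib
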