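import Groth.Agent.IsoNatClean.Closed
/-!
The groups of automorphisms over the base of the values of a functor out of a slice.
-/

set_option autoImplicit false
set_option backward.isDefEq.respectTransparency false
set_option backward.isDefEq.respectTransparency.types false
set_option linter.unusedSectionVars false

universe u

open CategoryTheory AlgebraicGeometry

namespace Groth.Agent.IsoAutLib

open Groth.Agent.ASt Groth.Agent.IsoNatClean

variable {S : Scheme.{u}} {𝒳 : AlgSt.Cat S} [h𝒳 : FibCat.IsFibGrpd 𝒳.p] {B : Over S}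
  (y : FibCat.overCat B ⥤ᵇ 𝒳)

/-- Automorphisms over the base of the value at a test scheme. -/
@[ext]
structure AutG {T : Over S} (k : T ⟶ B) where
  /-- the morphism -/
  hom : y.obj (ov k) ⟶ y.obj (ov k)
  vert : 𝒳.p.map hom = 𝟙 _

namespace AutG

variable {y} {T T' T'' : Over S} {k : T ⟶ B} {k' : T' ⟶ B} {k'' : T'' ⟶ B}

instance (a : AutG y k) : IsIso a.hom := isIso_of_vert a.hom (e := rfl) a.vert

noncomputable instance : Group (AutG y k) where
  mul a b := ⟨a.hom ≫ b.hom, by simp [a.vert, b.vert]⟩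
  one := ⟨𝟙 _, 𝒳.p.map_id _⟩
  inv a := ⟨inv a.hom, by simp [a.vert]⟩
  mul_assoc a b c := AutG.ext (Category.assoc a.hom b.hom c.hom)
  one_mul a := AutG.ext (Category.id_comp a.hom)
  mul_one a := AutG.ext (Category.comp_id a.hom)
  inv_mul_cancel a := AutG.ext (IsIso.inv_hom_id a.hom)

@[simp] theorem mul_hom (a b : AutG y k) : (a * b).hom = a.hom ≫ b.hom := rfl

@[simp] theorem one_hom : (1 : AutG y k).hom = 𝟙 _ := rfl

@[simp] theorem inv_hom (a : AutG y k) : a⁻¹.hom = inv a.hom := rfl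

theorem res_aux (g : T' ⟶ T) (e : g ≫ k = k') (a : AutG y k) :
    𝟙 _ ≫ 𝒳.p.map (y.map (ovHom g e)) = 𝒳.p.map (y.map (ovHom g e) ≫ a.hom) := by
  rw [Functor.map_comp, a.vert, Category.id_comp, Category.comp_id]

/-- Restriction along a morphism of test schemes. -/
noncomputable def res (g : T' ⟶ T) (e : g ≫ k = k') (a : AutG y k) : AutG y k' :=
  ⟨facMap (y.map (ovHom g e)) (y.map (ovHom g e) ≫ a.hom) (𝟙 _) (res_aux g e a),
    map_facMap _ _ _ (res_aux g e a)⟩

@[reassoc]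
theorem res_comp (g : T' ⟶ T) (e : g ≫ k = k') (a : AutG y k) :
    (res g e a).hom ≫ y.map (ovHom g e) = y.map (ovHom g e) ≫ a.hom := facMap_comp _ _ _ (res_aux g e a)

theorem eq_res (g : T' ⟶ T) (e : g ≫ k = k') (a : AutG y k) (b : AutG y k')
    (h : b.hom ≫ y.map (ovHom g e) = y.map (ovHom g e) ≫ a.hom) : b = res g e a :=
  AutG.ext (hom_ext (y.map (ovHom g e)) (b.vert.trans (res g e a).vert.symm) (h.trans (res_comp g e a).symm))

theorem res_one (g : T' ⟶ T) (e : g ≫ k = k') : res g e (1 : AutG y k) = 1 :=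
  (eq_res g e 1 1 (by simp)).symm

theorem res_mul (g : T' ⟶ T) (e : g ≫ k = k') (a b : AutG y k) : res g e (a * b) = res g e a * res g e b :=
  (eq_res g e (a * b) _ (by rw [mul_hom, mul_hom, Category.assoc, res_comp, res_comp_assoc])).symm

/-- Restriction as a homomorphism. -/
noncomputable def resHom (g : T' ⟶ T) (e : g ≫ k = k') : AutG y k →* AutG y k' where
  toFun := res g e
  map_one' := res_one g e
  map_mul' := res_mul g e

theorem res_inv (g : T' ⟶ T) (e : g ≫ k = k') (a : AutG y k) : res g e a⁻¹ = (res g e a)⁻¹ :=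
  map_inv (resHom g e) a

theorem res_id (a : AutG y k) : res (𝟙 T) (Category.id_comp k) a = a := by
  refine (eq_res _ _ a a ?_).symm
  rw [show ovHom (𝟙 T) (Category.id_comp k) = 𝟙 (ov k) from Over.OverMorphism.ext rfl, CategoryTheory.Functor.map_id,
    Category.id_comp, Category.comp_id]

theorem res_res (g' : T'' ⟶ T') (e' : g' ≫ k' = k'') (g : T' ⟶ T) (e : g ≫ k = k') (a : AutG y k) :
    res g' e' (res g e a) = res (g' ≫ g) (by rw [Category.assoc, e, e']) a := by
  refine eq_res _ _ a _ ?_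
  rw [show ovHom (g' ≫ g) (by rw [Category.assoc, e, e']) = ovHom g' e' ≫ ovHom g e from Over.OverMorphism.ext rfl,
    Functor.map_comp, res_comp_assoc, res_comp, Category.assoc]

theorem res_congr {g g' : T' ⟶ T} (h : g = g') (e : g ≫ k = k') (a : AutG y k) :
    res g e a = res g' (h ▸ e) a := by
  subst h; rfl

/-- Automorphisms agreeing on an open cover agree. -/
theorem ext_cover (hst : Stk.IsStack (AlgSp.J S) 𝒳) {a b : AutG y k}
    (h : ∀ w : ↥T.left, ∃ V : T.left.Opens, w ∈ V ∧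
      res (Over.homMk V.ι : Over.mk (V.ι ≫ T.hom) ⟶ T) rfl a =
        res (Over.homMk V.ι : Over.mk (V.ι ≫ T.hom) ⟶ T) rfl b) : a = b := by
  refine AutG.ext (ext_local hst (a.vert.trans b.vert.symm) fun w => ?_)
  let ε : 𝒳.p.obj (y.obj (ov k)) ⟶ T := eqToHom ((y.w_obj (ov k)).trans (ov_base k))
  obtain ⟨V, hw, hV⟩ := h (ε.left w)
  refine ⟨ε.left ⁻¹ᵁ V, hw, fun z φ hφ => ?_⟩
  have hr : Set.range ((𝒳.p.map φ).left ≫ ε.left) ⊆ Set.range V.ι := by
    rintro _ ⟨t, rfl⟩
    exact ⟨⟨_, hφ t⟩, rfl⟩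
  let l : 𝒳.p.obj z ⟶ Over.mk (V.ι ≫ T.hom) := Over.homMk (IsOpenImmersion.lift V.ι _ hr) (by
    change _ ≫ V.ι ≫ T.hom = _
    rw [IsOpenImmersion.lift_fac_assoc]
    exact Over.w (𝒳.p.map φ ≫ ε))
  have hl : l ≫ (Over.homMk V.ι : Over.mk (V.ι ≫ T.hom) ⟶ T) = 𝒳.p.map φ ≫ ε :=
    Over.OverMorphism.ext (IsOpenImmersion.lift_fac _ _ _)
  let j : y.obj (ov ((Over.homMk V.ι : Over.mk (V.ι ≫ T.hom) ⟶ T) ≫ k)) ⟶ y.obj (ov k) :=
    y.map (ovHom (Over.homMk V.ι) rfl)
  have hf := facMap_comp j φ (l ≫ eqToHom ((y.w_obj _).trans (ov_base _)).symm) (by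
    simp [j, map_w, ov_p_map, reassoc_of% hl, ε])
  rw [← hf]
  simp only [Category.assoc]
  exact congrArg (_ ≫ ·) ((res_comp _ _ a).symm.trans ((congrArg (fun t => AutG.hom t ≫ _) hV).trans (res_comp _ _ b)))

end AutG

end Groth.Agent.IsoAutLib
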