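import Groth.Agent.IsoAutLib.DoubleGlue
import Groth.Agent.IsoNatClean.Double
/-!
Classes glued from two sheets: existence, comparison and pullback.
-/

set_option autoImplicit false
set_option backward.isDefEq.respectTransparency false
set_option backward.isDefEq.respectTransparency.types false
set_option linter.unusedSectionVars false

universe u

open CategoryTheory CategoryTheory.Limits AlgebraicGeometry

namespace Groth.Agent.IsoAutLib

open Groth.Agent.ASt Groth.Agent.RepOne Groth.Agent.IsoNatClean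

variable {S : Scheme.{u}} {B : Over S}

namespace Doubled

/-- The sheet inclusion of the pushout along an open. -/
noncomputable def inc {Z : Scheme.{u}} (W : Z.Opens) (s : Bool) : Z ⟶ pushout W.ι W.ι :=
  bif s then pushout.inr W.ι W.ι else pushout.inl W.ι W.ι

instance isOpenImmersion_inc {Z : Scheme.{u}} (W : Z.Opens) (s : Bool) : IsOpenImmersion (inc W s) := by
  rcases s with _ | _ <;> dsimp [inc] <;> infer_instance

theorem inc_desc {Z Z' : Scheme.{u}} (W : Z.Opens) (s : Bool) (u v : Z ⟶ Z') (h : W.ι ≫ u = W.ι ≫ v) :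
    inc W s ≫ pushout.desc u v h = bif s then v else u := by
  rcases s with _ | _
  · exact pushout.inl_desc _ _ _
  · exact pushout.inr_desc _ _ _

/-- The scheme made of two copies of `R` glued along `W`. -/
noncomputable def of (R : Over S) (r : R ⟶ B) (W : R.left.Opens) : Doubled B where
  R := R
  X := Over.mk (pushout.desc r.left r.left rfl ≫ B.hom : pushout W.ι W.ι ⟶ S)
  r := r
  ρ := Over.homMk (pushout.desc r.left r.left rfl) rfl
  W := W
  i s := Over.homMk (inc W s) (by
    change inc W s ≫ pushout.desc r.left r.left rfl ≫ B.hom = R.hom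
    rw [← Category.assoc, inc_desc, Bool.cond_self]
    exact Over.w r)
  hi s := Over.OverMorphism.ext ((inc_desc W s _ _ rfl).trans (Bool.cond_self s _))
  open_i s := isOpenImmersion_inc W s
  cover x := by
    obtain ⟨k, t, rfl⟩ := Scheme.IsLocallyDirected.ι_jointly_surjective (span W.ι W.ι) x
    rcases k with _ | _ | _
    · refine ⟨false, W.ι t, ?_⟩
      exact congrArg (fun f => f t) (colimit.w (span W.ι W.ι) WalkingSpan.Hom.fst)
    · exact ⟨false, t, rfl⟩
    · exact ⟨true, t, rfl⟩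
  meet _ _ h := pushout_eq_iff W h
  agree := pushout.condition

/-- A morphism of doubled schemes. -/
structure Hom (D' D : Doubled B) where
  /-- on the sheets -/
  f : D'.R ⟶ D.R
  /-- on the glued schemes -/
  F : D'.X ⟶ D.X
  /-- on the common opens -/
  g : D'.Wo ⟶ D.Wo
  hf : f ≫ D.r = D'.r
  hF : F ≫ D.ρ = D'.ρ
  hi : ∀ s, D'.i s ≫ F = f ≫ D.i s
  hg : g ≫ D.ιW = D'.ιW ≫ f

/-- The morphism of doubles induced by a morphism of sheets. -/
noncomputable def homOf {R' R : Over S} (r' : R' ⟶ B) (r : R ⟶ B) (W' : R'.left.Opens) (W : R.left.Opens)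
    (f : R' ⟶ R) (hf : f ≫ r = r') (hW : Set.range (W'.ι ≫ f.left) ⊆ (W : Set ↥R.left)) :
    Hom (of R' r' W') (of R r W) :=
  let g : (of R' r' W').Wo ⟶ (of R r W).Wo :=
    (of R r W).liftW ((Over.homMk W'.ι : Over.mk (W'.ι ≫ R'.hom) ⟶ R') ≫ f) hW
  { f := f
    F := Over.homMk (pushout.desc (f.left ≫ inc W false) (f.left ≫ inc W true) (by
        have h := congrArg (fun k : (of R r W).Wo ⟶ (of R r W).X => g.left ≫ k.left) ((of R r W).agree')
        have hg : g.left ≫ W.ι = W'.ι ≫ f.left := IsOpenImmersion.lift_fac _ _ _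
        change g.left ≫ W.ι ≫ inc W false = g.left ≫ W.ι ≫ inc W true at h
        rw [← Category.assoc, ← Category.assoc _ W.ι, hg, Category.assoc, Category.assoc] at h
        exact h)) (by
      refine pushout.hom_ext ?_ ?_
      all_goals
        change _ ≫ pushout.desc _ _ _ ≫ pushout.desc r.left r.left rfl ≫ B.hom = _ ≫ pushout.desc r'.left r'.left rfl ≫ B.hom
        simp only [pushout.inl_desc_assoc, pushout.inr_desc_assoc, Category.assoc]
        rw [← Category.assoc (inc W _), inc_desc, Bool.cond_self, ← hf]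
        rfl)
    g := g
    hf := hf
    hF := by
      refine Over.OverMorphism.ext (pushout.hom_ext ?_ ?_)
      all_goals
        change _ ≫ pushout.desc _ _ _ ≫ pushout.desc r.left r.left rfl = _ ≫ pushout.desc r'.left r'.left rfl
        simp only [pushout.inl_desc_assoc, pushout.inr_desc_assoc, pushout.inl_desc, pushout.inr_desc, Category.assoc]
        rw [inc_desc, Bool.cond_self, ← hf]
        rfl
    hi := fun s => Over.OverMorphism.ext ((inc_desc W' s _ _ _).trans (by rcases s with _ | _ <;> rfl))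
    hg := (of R r W).liftW_fac _ _ }

theorem Hom.hk {D' D : Doubled B} (m : Hom D' D) : m.g ≫ D.ιW ≫ D.r = D'.ιW ≫ D'.r := by
  rw [← Category.assoc, m.hg, Category.assoc, m.hf]

variable {D : Doubled B} {𝒳 : AlgSt.Cat S} [h𝒳 : FibCat.IsFibGrpd 𝒳.p] {y : FibCat.overCat B ⥤ᵇ 𝒳}

/-- The tautological class on the base. -/
noncomputable def base0 (y : FibCat.overCat B ⥤ᵇ 𝒳) : ClType 𝒳 B :=
  cl (y.obj (ov (𝟙 B))) ((y.w_obj _).trans (ov_base _))

theorem clMap_base0 {T : Over S} (g : T ⟶ B) :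
    clMap g (base0 y) = cl (y.obj (ov g)) ((y.w_obj _).trans (ov_base _)) :=
  clMap_cl g (y.map (ovHom g (Category.comp_id g))) _ _ (by
    rw [map_w, ov_p_map]
    simp)

/-- The untwisted object. -/
noncomputable def oneTwisted (D : Doubled B) (y : FibCat.overCat B ⥤ᵇ 𝒳) :
    D.Twisted (1 : AutG y (D.ιW ≫ D.r)) where
  pt := y.obj (ov D.ρ)
  base := (y.w_obj _).trans (ov_base _)
  J s := y.map (ovHom (D.i s) (D.hi s))
  map_J s := by rw [map_w, ov_p_map]; rfl
  rel := by
    rw [AutG.one_hom, Category.id_comp, ← Functor.map_comp, ← Functor.map_comp]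
    congr 1
    exact Over.OverMorphism.ext D.agree'

theorem oneTwisted_el : (oneTwisted D y).el = clMap D.ρ (base0 y) := (clMap_base0 D.ρ).symm

theorem clMap_i_el {c : AutG y (D.ιW ≫ D.r)} (P : D.Twisted c) (s : Bool) :
    clMap (D.i s) P.el = clMap D.r (base0 y) := by
  rw [clMap_base0]
  exact clMap_cl _ (P.J s) _ _ (P.map_J s)

theorem map_ιW_J {c : AutG y (D.ιW ≫ D.r)} (P : D.Twisted c) (s : Bool) :
    𝒳.p.map (y.map (ovHom D.ιW (rfl : D.ιW ≫ D.r = _)) ≫ P.J s) =
      eqToHom ((y.w_obj _).trans (ov_base _)) ≫ D.ιW ≫ D.i s ≫ eqToHom P.base.symm := by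
  rw [Functor.map_comp, P.map_J, map_w, ov_p_map]
  simp

/-- A class trivial on both sheets is twisted. -/
theorem exists_twisted_el (z : ClType 𝒳 D.X) (h : ∀ s, clMap (D.i s) z = clMap D.r (base0 y)) :
    ∃ (c : AutG y (D.ιW ≫ D.r)) (P : D.Twisted c), P.el = z := by
  obtain ⟨x, hx, rfl⟩ := cl_exists z
  have hs : ∀ s, ∃ J : y.obj (ov D.r) ⟶ x,
      𝒳.p.map J = eqToHom ((y.w_obj (ov D.r)).trans (ov_base _)) ≫ D.i s ≫ eqToHom hx.symm := fun s => by
    have h' := h s
    rw [clMap_base0, clMap_cl_pull] at h'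
    obtain ⟨a, ha⟩ := cl_eq_iff.1 h'.symm
    refine ⟨a ≫ pullHom x hx (D.i s), ?_⟩
    rw [Functor.map_comp, ha, map_pullHom]
    simp
  choose J hJ using hs
  let u := y.map (ovHom D.ιW (rfl : D.ιW ≫ D.r = _))
  have he : 𝟙 _ ≫ 𝒳.p.map (u ≫ J true) = 𝒳.p.map (u ≫ J false) := by
    rw [Category.id_comp, Functor.map_comp, Functor.map_comp, hJ, hJ, map_w, ov_p_map]
    simp only [Category.assoc, eqToHom_trans_assoc, eqToHom_refl, Category.id_comp]
    exact congrArg (eqToHom _ ≫ ·) ((reassoc_of% D.agree'.symm) _)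
  exact ⟨⟨facMap (u ≫ J true) (u ≫ J false) (𝟙 _) he, map_facMap _ _ _ _⟩,
    ⟨x, hx, J, hJ, (facMap_comp _ _ _ he).symm⟩, rfl⟩

variable (hst : Stk.IsStack (AlgSp.J S) 𝒳)

include hst in
/-- Comparison of twisted classes. -/
theorem el_eq_iff {c c' : AutG y (D.ιW ≫ D.r)} (P : D.Twisted c) (P' : D.Twisted c') :
    P.el = P'.el ↔ ∃ a b : AutG y D.r, c * AutG.res D.ιW rfl b = AutG.res D.ιW rfl a * c' := by
  constructor
  · intro h
    obtain ⟨i, hi⟩ := cl_eq_iff.1 h
    have hs : ∀ s, ∃ a : AutG y D.r, a.hom ≫ P'.J s = P.J s ≫ i := fun s => by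
      have e : 𝟙 _ ≫ 𝒳.p.map (P'.J s) = 𝒳.p.map (P.J s ≫ i) := by
        rw [Category.id_comp, Functor.map_comp, P.map_J, P'.map_J, hi]
        simp
      exact ⟨⟨facMap (P'.J s) (P.J s ≫ i) (𝟙 _) e, map_facMap _ _ _ _⟩, facMap_comp _ _ _ e⟩
    choose a ha using hs
    refine ⟨a false, a true, AutG.ext (hom_ext (y.map (ovHom D.ιW rfl) ≫ P'.J true) ?_ ?_)⟩
    · rw [AutG.vert, AutG.vert]
    · simp only [AutG.mul_hom, Category.assoc]
      rw [← P'.rel, AutG.res_comp_assoc, AutG.res_comp_assoc, ha, ha, ← Category.assoc _ (P.J false),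
        P.rel]
      simp only [Category.assoc]
  · rintro ⟨a, b, h⟩
    let J : Bool → (y.obj (ov D.r) ⟶ P'.pt) := fun s => (bif s then b else a).hom ≫ P'.J s
    have hJ : y.map (ovHom D.ιW (rfl : D.ιW ≫ D.r = _)) ≫ J false =
        c.hom ≫ y.map (ovHom D.ιW (rfl : D.ιW ≫ D.r = _)) ≫ J true := by
      change _ ≫ a.hom ≫ _ = _ ≫ _ ≫ b.hom ≫ _
      rw [← AutG.res_comp_assoc, ← AutG.res_comp_assoc, P'.rel, ← Category.assoc (AutG.hom _) c'.hom,
        ← Category.assoc c.hom]
      exact congrArg (fun t => AutG.hom t ≫ _) h.symm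
    let Q : D.Twisted c := ⟨P'.pt, P'.base, J, fun s => by
      rw [Functor.map_comp, AutG.vert, Category.id_comp, P'.map_J], hJ⟩
    obtain ⟨i, hi, -⟩ := D.exists_hom c hst P Q
    exact cl_eq_iff.2 ⟨i, hi⟩

/-- Pullback of twisted classes along a morphism of doubles. -/
theorem exists_pullback {D' : Doubled B} (m : Hom D' D) {c : AutG y (D.ιW ≫ D.r)} (P : D.Twisted c) :
    ∃ P' : D'.Twisted (AutG.res m.g m.hk c), P'.el = clMap m.F P.el := by
  let u := pullHom P.pt P.base m.F
  have e : ∀ s, (eqToHom ((y.w_obj (ov D'.r)).trans (ov_base _)) ≫ D'.i s ≫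
      eqToHom (pull_base P.pt P.base m.F).symm) ≫ 𝒳.p.map u =
        𝒳.p.map (y.map (ovHom m.f m.hf) ≫ P.J s) := fun s => by
    rw [Functor.map_comp, P.map_J, map_pullHom, map_w, ov_p_map]
    simp [reassoc_of% (m.hi s)]
  let J : Bool → (y.obj (ov D'.r) ⟶ pull P.pt P.base m.F) := fun s => facMap u _ _ (e s)
  have hJ : ∀ s, J s ≫ u = y.map (ovHom m.f m.hf) ≫ P.J s := fun s => facMap_comp _ _ _ (e s)
  refine ⟨⟨pull P.pt P.base m.F, pull_base _ _ _, J, fun s => map_facMap _ _ _ (e s), ?_⟩, rfl⟩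
  refine hom_ext u ?_ ?_
  · simp only [Functor.map_comp, AutG.vert, Category.id_comp, J, map_facMap, map_w, ov_p_map]
    simp only [Category.assoc, eqToHom_trans_assoc, eqToHom_refl, Category.id_comp]
    exact congrArg (eqToHom _ ≫ ·) ((reassoc_of% D'.agree') _)
  · have hh : ovHom D'.ιW (rfl : D'.ιW ≫ D'.r = _) ≫ ovHom m.f m.hf =
        ovHom m.g m.hk ≫ ovHom D.ιW (rfl : D.ιW ≫ D.r = _) :=
      Over.OverMorphism.ext m.hg.symm
    simp only [Category.assoc, hJ]
    have key := congrArg y.map hh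
    rw [Functor.map_comp, Functor.map_comp] at key
    simp only [reassoc_of% key]
    rw [P.rel, AutG.res_comp_assoc]

end Doubled

end Groth.Agent.IsoAutLib
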