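import Groth.Agent.IsoAutLib.Dense
import Groth.Agent.IsoAutLib.DoubleMap
/-!
Classes on two copies of the axes glued along the punctured axes, trivial on the sheets and on every axis.
-/

set_option autoImplicit false
set_option backward.isDefEq.respectTransparency false
set_option backward.isDefEq.respectTransparency.types false
set_option linter.unusedSectionVars false

universe u

open CategoryTheory CategoryTheory.Limits AlgebraicGeometry

namespace Groth.Agent.IsoAutLib

open Groth.Agent.ASt Groth.Agent.RepOne Groth.Agent.IsoNatClean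

variable {S : Scheme.{u}}

/-- The doubled axes. -/
noncomputable def dbl (B : Over S) (m : ℕ) : Doubled B :=
  Doubled.of (Cross.R m B) (Cross.proj m B) (Cross.W m B)

/-- The map of doubled axes induced by an injection of index sets. -/
noncomputable def dblMap (B : Over S) {k m : ℕ} (σ : Fin k → Fin m) (hσ : Function.Injective σ) :
    Doubled.Hom (dbl B k) (dbl B m) :=
  Doubled.homOf _ _ _ _ (Cross.map B σ) (Cross.map_proj B σ) (Cross.map_W B hσ)

/-- The inclusion of a doubled axis. -/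
noncomputable def dblBr (B : Over S) {m : ℕ} (i : Fin m) : Doubled.Hom (dbl B 1) (dbl B m) :=
  dblMap B (fun _ => i) (Cross.const_injective i)

theorem dblBr_comp (B : Over S) {k m : ℕ} (σ : Fin k → Fin m) (hσ : Function.Injective σ) (j : Fin k) :
    (dblBr B j).g ≫ (dblMap B σ hσ).g = (dblBr B (σ j)).g := by
  refine (cancel_mono (dbl B m).ιW).1 ?_
  rw [Category.assoc, (dblMap B σ hσ).hg, reassoc_of% (dblBr B j).hg, (dblBr B (σ j)).hg]
  exact congrArg ((dbl B 1).ιW ≫ ·) (Cross.br_map B hσ j)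

variable {𝒳 : AlgSt.Cat S} [h𝒳 : FibCat.IsFibGrpd 𝒳.p] {B : Over S} (y : FibCat.overCat B ⥤ᵇ 𝒳)

/-- Automorphisms on the base. -/
abbrev AB := AutG y (𝟙 B)

/-- Automorphisms on the axes. -/
abbrev AR (m : ℕ) := AutG y (dbl B m).r

/-- Automorphisms on the punctured axes. -/
abbrev AW (m : ℕ) := AutG y ((dbl B m).ιW ≫ (dbl B m).r)

variable {y}

theorem res_res_eq {T T' T'' : Over S} {k : T ⟶ B} {k' : T' ⟶ B} {k'' : T'' ⟶ B} {g' : T'' ⟶ T'}
    {g : T' ⟶ T} {g'' : T'' ⟶ T} (h : g' ≫ g = g'') (e' : g' ≫ k' = k'') (e : g ≫ k = k') (e'' : g'' ≫ k = k'')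
    (a : AutG y k) : AutG.res g' e' (AutG.res g e a) = AutG.res g'' e'' a :=
  (AutG.res_res g' e' g e a).trans (AutG.res_congr h _ a)

/-- A constant automorphism. -/
noncomputable def const {V : Over S} (k : V ⟶ B) : AB y →* AutG y k := AutG.resHom k (Category.comp_id k)

theorem res_const {V V' : Over S} {k : V ⟶ B} {k' : V' ⟶ B} (g : V' ⟶ V) (e : g ≫ k = k') (a : AB y) :
    AutG.res g e (const k a) = const k' a :=
  (AutG.res_res g e k (Category.comp_id k) a).trans (AutG.res_congr e _ a)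

/-- Restriction to the punctured axes. -/
noncomputable def rW {m : ℕ} : AR y m →* AW y m := AutG.resHom (dbl B m).ιW rfl

/-- Restriction to a punctured axis. -/
noncomputable def resW {m : ℕ} (i : Fin m) : AW y m →* AW y 1 := AutG.resHom (dblBr B i).g (dblBr B i).hk

/-- Restriction to an axis. -/
noncomputable def resR {m : ℕ} (i : Fin m) : AR y m →* AR y 1 := AutG.resHom (dblBr B i).f (dblBr B i).hf

/-- The value at the origin. -/
noncomputable def ev {m : ℕ} : AR y m →* AB y := AutG.resHom (Cross.origin m B) (Cross.origin_proj m B)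

theorem resW_rW {m : ℕ} (i : Fin m) (a : AR y m) : resW i (rW a) = rW (resR i a) :=
  (AutG.res_res _ (dblBr B i).hk _ rfl a).trans
    ((AutG.res_congr (dblBr B i).hg _ a).trans (AutG.res_res _ rfl _ (dblBr B i).hf a).symm)

theorem rW_const {m : ℕ} (a : AB y) : rW (const (dbl B m).r a) = const ((dbl B m).ιW ≫ (dbl B m).r) a :=
  res_const _ rfl a

theorem resW_const {m : ℕ} (i : Fin m) (a : AB y) :
    resW i (const ((dbl B m).ιW ≫ (dbl B m).r) a) = const ((dbl B 1).ιW ≫ (dbl B 1).r) a :=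
  res_const _ _ a

theorem resR_const {m : ℕ} (i : Fin m) (a : AB y) : resR i (const (dbl B m).r a) = const (dbl B 1).r a :=
  res_const _ _ a

theorem ev_const {m : ℕ} (a : AB y) : ev (m := m) (const (dbl B m).r a) = a :=
  (res_const (k' := 𝟙 B) _ (Cross.origin_proj m B) a).trans (AutG.res_id a)

theorem ev_resR {m : ℕ} (i : Fin m) (a : AR y m) : ev (resR i a) = ev a :=
  (AutG.res_res _ (Cross.origin_proj 1 B) _ (dblBr B i).hf a).trans (AutG.res_congr (Cross.origin_br B i) _ a)

variable (hst : Stk.IsStack (AlgSp.J S) 𝒳)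

include hst in
/-- Automorphisms on the punctured axes agreeing on each of them agree. -/
theorem ext_W {m : ℕ} {c c' : AW y m} (h : ∀ i, resW i c = resW i c') : c = c' := by
  refine AutG.ext_cover hst fun w => ?_
  obtain ⟨i, hi⟩ := Cross.mem_W.1 (w : ↥(Cross.W m B)).2
  let V : (dbl B m).Wo.left.Opens := (dbl B m).ιW.left ⁻¹ᵁ Cross.U B i
  refine ⟨V, hi, ?_⟩
  let iV : Over.mk (V.ι ≫ (dbl B m).Wo.hom) ⟶ (dbl B m).Wo := Over.homMk V.ι
  obtain ⟨hf, hr⟩ := Cross.factor_br (iV ≫ (dbl B m).ιW) i fun z => z.2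
  let lw := (dbl B 1).liftW ((iV ≫ (dbl B m).ιW) ≫ Cross.retr B i) hr
  have hl : lw ≫ (dblBr B i).g = iV := by
    refine (cancel_mono (dbl B m).ιW).1 ?_
    rw [Category.assoc, (dblBr B i).hg]
    exact ((Category.assoc _ _ _).symm.trans (congrArg (· ≫ _) ((dbl B 1).liftW_fac _ hr))).trans hf
  have := congrArg (AutG.res (k' := iV ≫ (dbl B m).ιW ≫ (dbl B m).r) lw
    (by rw [← hl, Category.assoc, (dblBr B i).hk])) (h i)
  change AutG.res lw _ (AutG.res (dblBr B i).g _ c) = AutG.res lw _ (AutG.res (dblBr B i).g _ c') at this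
  rw [AutG.res_res, AutG.res_res, AutG.res_congr hl, AutG.res_congr hl] at this
  exact this

include hst in
/-- An automorphism supported on one punctured axis. -/
theorem exists_single {m : ℕ} (i : Fin m) (a : AB y) :
    ∃ b : AW y m, ∀ j, resW j b = if j = i then const _ a else 1 := by
  classical
  let kW := (dbl B m).ιW ≫ (dbl B m).r
  let x := y.obj (ov kW)
  let ε : 𝒳.p.obj x ⟶ (dbl B m).Wo := eqToHom ((y.w_obj _).trans (ov_base _))
  let aW : AW y m := const kW a
  let s : Aut x := asIso aW.hom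
  let n : ↥(𝒳.p.obj x).left → ℤ := fun w => if (dbl B m).ιW.left (ε.left w) ∈ Cross.U B i then 1 else 0
  have hn : IsLocallyConstant n := by
    refine (IsLocallyConstant.iff_exists_open _).2 fun w => ?_
    obtain ⟨j, hj⟩ := Cross.mem_W.1 (ε.left w : ↥(Cross.W m B)).2
    refine ⟨(ε ≫ (dbl B m).ιW).left ⁻¹ᵁ Cross.U B j, ((ε ≫ (dbl B m).ιW).left ⁻¹ᵁ Cross.U B j).2, hj,
      fun w' hw' => ?_⟩
    have key : ∀ v, (dbl B m).ιW.left (ε.left v) ∈ Cross.U B j →
        ((dbl B m).ιW.left (ε.left v) ∈ Cross.U B i ↔ j = i) := fun v hv =>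
      ⟨fun h => Cross.U_disjoint hv h, fun h => h ▸ hv⟩
    simp only [n, key w' hw', key w hj]
  obtain ⟨τ, hτ⟩ := exists_isTw hst (s := s) aW.vert (a := x) (𝟙 x) hn
  let b : AW y m := ⟨τ, hτ.base.trans (𝒳.p.map_id x)⟩
  refine ⟨b, fun j => ?_⟩
  let g := (dblBr B j).g
  let φ := y.map (ovHom g (dblBr B j).hk)
  have hu : ∀ z, (dbl B m).ιW.left (g.left z) ∈ Cross.U B j := fun z => by
    have e : (dbl B m).ιW.left (g.left z) = (dblBr B j).f.left ((dbl B 1).ιW.left z) :=
      congrArg (fun k => k.left z) (dblBr B j).hg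
    rw [e]
    exact Cross.map_mem_U B (Cross.const_injective j) (Cross.mem_W_one.1 (z : ↥(Cross.W 1 B)).2)
  have hc : ∀ z, n ((𝒳.p.map φ).left z) = if j = i then 1 else 0 := fun z => by
    have e : 𝒳.p.map φ ≫ ε = eqToHom ((y.w_obj _).trans (ov_base _)) ≫ g := by
      simp [φ, ε, map_w, ov_p_map]
    have e' : ∃ z', ε.left ((𝒳.p.map φ).left z) = g.left z' := ⟨_, congrArg (fun k => k.left z) e⟩
    obtain ⟨z', hz'⟩ := e'
    simp only [n, hz']
    by_cases h : j = i
    · subst h
      rw [if_pos rfl, if_pos (hu z')]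
    · rw [if_neg h, if_neg fun h' => h (Cross.U_disjoint (hu z') h')]
  have hloc := hτ.loc _ φ _ hc
  split_ifs with h
  · rw [if_pos h, zpow_one] at hloc
    refine (AutG.eq_res _ _ b _ ?_).symm
    rw [← res_const g (dblBr B j).hk a, AutG.res_comp]
    exact (hloc.trans (congrArg (φ ≫ ·) (Category.id_comp _))).symm
  · rw [if_neg h, zpow_zero] at hloc
    refine (AutG.eq_res _ _ b _ ?_).symm
    rw [AutG.one_hom, Category.id_comp]
    exact (hloc.trans (congrArg (φ ≫ ·) (Category.id_comp (𝟙 x)))).trans (Category.comp_id φ) |>.symm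

/-- An automorphism constant on each punctured axis. -/
def IsPw {m : ℕ} (c : AW y m) (s : Fin m → AB y) : Prop := ∀ i, resW i c = const _ (s i)

include hst in
theorem exists_pw {m : ℕ} (s : Fin m → AB y) : ∃ c : AW y m, IsPw c s := by
  classical
  have key : ∀ F : Finset (Fin m), ∃ c : AW y m, ∀ i, resW i c = if i ∈ F then const _ (s i) else 1 := by
    intro F
    induction F using Finset.induction_on with
    | empty => exact ⟨1, fun i => by simp⟩
    | insert a F ha ih =>
      obtain ⟨c, hc⟩ := ih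
      obtain ⟨b, hb⟩ := exists_single hst a (s a)
      refine ⟨c * b, fun i => ?_⟩
      rw [map_mul, hc, hb]
      by_cases h : i = a
      · subst h
        simp [ha]
      · simp [h]
  obtain ⟨c, hc⟩ := key Finset.univ
  exact ⟨c, fun i => by simpa using hc i⟩

/-- Automorphisms on the axes with prescribed restrictions trivial at the origin. -/
theorem exists_glue_axes {m : ℕ} (h : Fin m → AR y 1) (h0 : ∀ i, ev (h i) = 1) :
    ∃ a : AR y m, ∀ i, resR i a = h i := by
  classical
  have key : ∀ F : Finset (Fin m), ∃ a : AR y m, ∀ i, resR i a = if i ∈ F then h i else 1 := by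
    intro F
    induction F using Finset.induction_on with
    | empty => exact ⟨1, fun i => by simp⟩
    | insert j F hj ih =>
      obtain ⟨a, ha⟩ := ih
      refine ⟨a * (show AR y m from AutG.res (Cross.retr B j) (Cross.retr_proj B j) (h j)), fun i => ?_⟩
      rw [map_mul, ha]
      have e1 : resR i (AutG.res (Cross.retr B j) (Cross.retr_proj B j) (h j) : AR y m) =
          AutG.res (k' := (dbl B 1).r) (Cross.br B i ≫ Cross.retr B j)
            (by rw [Category.assoc]; exact (congrArg (_ ≫ ·) (Cross.retr_proj B j)).trans (Cross.br_proj B i)) (h j) :=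
        AutG.res_res _ (dblBr B i).hf _ _ _
      rw [e1]
      by_cases hij : i = j
      · subst hij
        rw [if_neg hj, if_pos (Finset.mem_insert_self _ _), one_mul, AutG.res_congr (Cross.br_retr_self B i)]
        exact AutG.res_id _
      · rw [AutG.res_congr (Cross.br_retr_ne B (Ne.symm hij)),
          ← AutG.res_res (k' := 𝟙 B) (k'' := (dbl B 1).r) (Cross.proj 1 B) (Category.comp_id _)
            (Cross.origin 1 B) (Cross.origin_proj 1 B) (h j)]
        rw [show AutG.res (Cross.origin 1 B) (Cross.origin_proj 1 B) (h j) = 1 from h0 j, AutG.res_one, mul_one]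
        simp [hij]
  obtain ⟨a, ha⟩ := key Finset.univ
  exact ⟨a, fun i => by simpa using ha i⟩

variable (y) in
/-- The classes of objects glued by automorphisms constant on each punctured axis. -/
def Psi {m : ℕ} (s : Fin m → AB y) (z : ClType 𝒳 (dbl B m).X) : Prop :=
  ∃ (c : AW y m) (P : (dbl B m).Twisted c), IsPw c s ∧ P.el = z

include hst in
theorem exists_psi {m : ℕ} (s : Fin m → AB y) : ∃ z, Psi y s z := by
  obtain ⟨c, hc⟩ := exists_pw hst s
  obtain ⟨P⟩ := (dbl B m).exists_twisted c hst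
  exact ⟨_, c, P, hc, rfl⟩

/-- Classes trivial on both sheets and on each axis. -/
def IsK (e : ClType 𝒳 B) (m : ℕ) (z : ClType 𝒳 (dbl B m).X) : Prop :=
  (∀ s, clMap ((dbl B m).i s) z = clMap (dbl B m).r e) ∧
    ∀ i : Fin m, clMap (dblBr B i).F z = clMap (dbl B 1).ρ e

include hst in
theorem psi_isK {m : ℕ} {s : Fin m → AB y} {z : ClType 𝒳 (dbl B m).X} (h : Psi y s z) :
    IsK (Doubled.base0 y) m z := by
  obtain ⟨c, P, hc, rfl⟩ := h
  refine ⟨fun b => Doubled.clMap_i_el P b, fun i => ?_⟩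
  obtain ⟨P', hP'⟩ := Doubled.exists_pullback (dblBr B i) P
  rw [← hP', ← Doubled.oneTwisted_el]
  refine (Doubled.el_eq_iff hst P' _).2 ⟨const _ (s i), 1, ?_⟩
  rw [AutG.res_one, mul_one, mul_one]
  exact (hc i).trans (rW_const (m := 1) (s i)).symm

theorem psi_map {k m : ℕ} {s : Fin m → AB y} {z : ClType 𝒳 (dbl B m).X} (h : Psi y s z) (σ : Fin k → Fin m)
    (hσ : Function.Injective σ) : Psi y (s ∘ σ) (clMap (dblMap B σ hσ).F z) := by
  obtain ⟨c, P, hc, rfl⟩ := h
  obtain ⟨P', hP'⟩ := Doubled.exists_pullback (dblMap B σ hσ) P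
  refine ⟨AutG.res (dblMap B σ hσ).g (dblMap B σ hσ).hk c, P', fun j => Eq.trans ?_ (hc (σ j)), hP'⟩
  simp only [resW, AutG.resHom, MonoidHom.coe_mk, OneHom.coe_mk]
  exact res_res_eq (dblBr_comp B σ hσ j) _ _ _ c

variable (hd : AlgSt.RepByAlgSpWith (AlgSp.IsSeparatedMor ⊓ AlgSp.IsQuasiCompactMor)
    (FibCat.diag (FibCat.toSelf 𝒳)))

include hst hd in
theorem psi_eq_iff {m : ℕ} {s s' : Fin m → AB y} {z z' : ClType 𝒳 (dbl B m).X} (h : Psi y s z)
    (h' : Psi y s' z') : z = z' ↔ ∃ a b : AB y, ∀ i, s i * b = a * s' i := by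
  obtain ⟨c, P, hc, rfl⟩ := h
  obtain ⟨c', P', hc', rfl⟩ := h'
  rw [Doubled.el_eq_iff hst]
  constructor
  · rintro ⟨a, b, hab⟩
    refine ⟨ev a, ev b, fun i => ?_⟩
    have h1 : resW i (c * rW b) = resW i (rW a * c') := congrArg (resW i) hab
    rw [map_mul, map_mul, resW_rW, resW_rW, hc i, hc' i, ← rW_const, ← rW_const, ← map_mul, ← map_mul] at h1
    have h2 := congrArg (ev (m := 1)) (line_ext hst hd (T := B) (k := (dbl B 1).r) h1)
    rwa [map_mul, map_mul, ev_const, ev_const, ev_resR, ev_resR] at h2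
  · rintro ⟨a, b, hab⟩
    refine ⟨const _ a, const _ b, ext_W hst fun i => ?_⟩
    change resW i (c * rW (const _ b)) = resW i (rW (const _ a) * c')
    rw [map_mul, map_mul, rW_const, rW_const, resW_const, resW_const, hc i, hc' i, ← map_mul, ← map_mul, hab i]

include hst hd in
theorem psi_shift {m : ℕ} {s s' : Fin m → AB y} {z : ClType 𝒳 (dbl B m).X} (h : Psi y s z)
    (a b : AB y) (hab : ∀ i, s i * b = a * s' i) : Psi y s' z := by
  obtain ⟨z', hz'⟩ := exists_psi hst s'
  rwa [(psi_eq_iff hst hd h hz').2 ⟨a, b, hab⟩]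

include hst in
theorem exists_of_isK {m : ℕ} {z : ClType 𝒳 (dbl B m).X} (h : IsK (Doubled.base0 y) m z) :
    ∃ s : Fin m → AB y, Psi y s z := by
  obtain ⟨c, P, rfl⟩ := Doubled.exists_twisted_el z h.1
  have hg : ∀ i, ∃ g : AR y 1, resW i c = rW g := fun i => by
    obtain ⟨P', hP'⟩ := Doubled.exists_pullback (dblBr B i) P
    have he : P'.el = (Doubled.oneTwisted (dbl B 1) y).el :=
      hP'.trans ((h.2 i).trans (Doubled.oneTwisted_el).symm)
    obtain ⟨a, b, hab⟩ := (Doubled.el_eq_iff hst P' _).1 he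
    refine ⟨a * b⁻¹, ?_⟩
    change resW i c * rW b = rW a * 1 at hab
    rw [mul_one] at hab
    rw [map_mul, map_inv, ← hab, mul_inv_cancel_right]
  choose g hg using hg
  obtain ⟨a, ha⟩ := exists_glue_axes (fun i => g i * (const _ (ev (g i)))⁻¹)
    fun i => by rw [map_mul, map_inv, ev_const, mul_inv_cancel]
  obtain ⟨c₀, hc₀⟩ := exists_pw hst fun i => ev (g i)
  obtain ⟨P₀⟩ := (dbl B m).exists_twisted c₀ hst
  refine ⟨_, c₀, P₀, hc₀, ((Doubled.el_eq_iff hst P P₀).2 ⟨a, 1, ?_⟩).symm⟩
  refine ext_W hst fun i => ?_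
  change resW i (c * rW 1) = resW i (rW a * c₀)
  rw [map_one, mul_one, map_mul, resW_rW, ha i, hc₀ i, map_mul, map_inv, rW_const, hg i, inv_mul_cancel_right]

end Groth.Agent.IsoAutLib
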