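import Mathlib.AlgebraicGeometry.GammaSpecAdjunction
import Mathlib.AlgebraicGeometry.Limits
import Mathlib.AlgebraicGeometry.Pullbacks
import Mathlib.RingTheory.MvPolynomial.Basic
import Mathlib.CategoryTheory.Comma.Over.Basic
/-!
The union of the coordinate axes over a base, its punctured axes and the maps between them.
-/

set_option autoImplicit false
set_option backward.isDefEq.respectTransparency false
set_option backward.isDefEq.respectTransparency.types false
set_option linter.unusedSectionVars false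

universe u

open CategoryTheory CategoryTheory.Limits AlgebraicGeometry

namespace Groth.Agent.IsoAutLib.Cross

/-- The ideal of products of two different coordinates. -/
noncomputable def rels (m : ℕ) : Ideal (MvPolynomial (Fin m) ℤ) :=
  Ideal.span {q | ∃ i j : Fin m, i ≠ j ∧ q = MvPolynomial.X i * MvPolynomial.X j}

/-- The ring of the axes. -/
noncomputable def ring (m : ℕ) : CommRingCat.{u} :=
  CommRingCat.of (ULift.{u} (MvPolynomial (Fin m) ℤ ⧸ rels m))

/-- A coordinate in the ring of the axes. -/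
noncomputable def gen (m : ℕ) (i : Fin m) : ring.{u} m := ULift.up (Ideal.Quotient.mk _ (MvPolynomial.X i))

theorem gen_mul (m : ℕ) {i j : Fin m} (h : i ≠ j) : gen.{u} m i * gen m j = 0 := by
  refine ULift.ext _ _ ?_
  change Ideal.Quotient.mk (rels m) (MvPolynomial.X i) * Ideal.Quotient.mk (rels m) (MvPolynomial.X j) = 0
  rw [← map_mul, Ideal.Quotient.eq_zero_iff_mem]
  exact Ideal.subset_span ⟨i, j, h, rfl⟩

theorem ring_ext {m : ℕ} {A : CommRingCat.{u}} {φ ψ : ring.{u} m ⟶ A}
    (h : ∀ i, φ.hom (gen m i) = ψ.hom (gen m i)) : φ = ψ := by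
  have e : φ.hom.comp ((ULift.ringEquiv.symm.toRingHom).comp (Ideal.Quotient.mk (rels m))) =
      ψ.hom.comp ((ULift.ringEquiv.symm.toRingHom).comp (Ideal.Quotient.mk (rels m))) :=
    MvPolynomial.ringHom_ext' (Subsingleton.elim _ _) h
  refine CommRingCat.hom_ext (RingHom.ext fun ⟨a⟩ => ?_)
  obtain ⟨a, rfl⟩ := Ideal.Quotient.mk_surjective a
  exact RingHom.congr_fun e a

/-- A homomorphism out of the ring of the axes. -/
noncomputable def ringMap {m : ℕ} {A : CommRingCat.{u}} (f : Fin m → A)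
    (h : ∀ i j, i ≠ j → f i * f j = 0) : ring.{u} m ⟶ A :=
  CommRingCat.ofHom ((Ideal.Quotient.lift (rels m) (MvPolynomial.eval₂Hom (Int.castRingHom _) f) (by
    suffices hle : rels m ≤ RingHom.ker (MvPolynomial.eval₂Hom (Int.castRingHom _) f) from fun a ha => hle ha
    refine Ideal.span_le.2 ?_
    rintro _ ⟨i, j, hij, rfl⟩
    simp [h i j hij])).comp ULift.ringEquiv.toRingHom)

theorem ringMap_gen {m : ℕ} {A : CommRingCat.{u}} (f : Fin m → A) (h : ∀ i j, i ≠ j → f i * f j = 0) (i : Fin m) :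
    (ringMap f h).hom (gen m i) = f i := by
  change MvPolynomial.eval₂Hom (Int.castRingHom _) f (MvPolynomial.X i) = f i
  simp

variable {S : Scheme.{u}}

/-- The union of `m` lines through a section over a base. -/
noncomputable def R (m : ℕ) (T : Over S) : Over S :=
  Over.mk (pullback.fst (terminal.from T.left) (terminal.from (Spec (ring.{u} m))) ≫ T.hom)

/-- The projection. -/
noncomputable def proj (m : ℕ) (T : Over S) : R m T ⟶ T := Over.homMk (pullback.fst _ _) rfl

/-- The morphism to the universal axes. -/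
noncomputable def univ (m : ℕ) (T : Over S) : (R m T).left ⟶ Spec (ring.{u} m) := pullback.snd _ _

/-- The coordinates. -/
noncomputable def x {m : ℕ} {T : Over S} (i : Fin m) : Γ((R m T).left, ⊤) :=
  (univ m T).appTop ((Scheme.ΓSpecIso (ring.{u} m)).inv (gen m i))

theorem x_mul {m : ℕ} {T : Over S} {i j : Fin m} (h : i ≠ j) : x (T := T) i * x j = 0 := by
  rw [x, x, ← map_mul, ← map_mul, gen_mul m h, map_zero, map_zero]

/-- The coordinates of a point. -/
noncomputable def xv {m : ℕ} {T V : Over S} (l : V ⟶ R m T) (i : Fin m) : Γ(V.left, ⊤) := l.left.appTop (x i)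

theorem xv_comp {m : ℕ} {T V V' : Over S} (k : V' ⟶ V) (l : V ⟶ R m T) (i : Fin m) :
    xv (k ≫ l) i = k.left.appTop (xv l i) := by
  simp only [xv, Over.comp_left, Scheme.Hom.comp_appTop]
  rfl

theorem xv_id {m : ℕ} {T : Over S} (i : Fin m) : xv (𝟙 (R m T)) i = x i := by simp [xv]

theorem xv_mul {m : ℕ} {T V : Over S} (l : V ⟶ R m T) {i j : Fin m} (h : i ≠ j) : xv l i * xv l j = 0 := by
  rw [xv, xv, ← map_mul, x_mul h, map_zero]

/-- A point from a point of the base and coordinates. -/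
noncomputable def pt {m : ℕ} {T V : Over S} (g : V ⟶ T) (f : Fin m → Γ(V.left, ⊤))
    (h : ∀ i j, i ≠ j → f i * f j = 0) : V ⟶ R m T :=
  Over.homMk (pullback.lift g.left (V.left.toSpecΓ ≫ Spec.map (ringMap f h)) (terminal.hom_ext _ _)) (by
    change _ ≫ pullback.fst _ _ ≫ T.hom = V.hom
    rw [pullback.lift_fst_assoc]
    exact Over.w g)

theorem pt_proj {m : ℕ} {T V : Over S} (g : V ⟶ T) (f : Fin m → Γ(V.left, ⊤))
    (h : ∀ i j, i ≠ j → f i * f j = 0) : pt g f h ≫ proj m T = g :=
  Over.OverMorphism.ext (pullback.lift_fst _ _ _)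

theorem xv_pt {m : ℕ} {T V : Over S} (g : V ⟶ T) (f : Fin m → Γ(V.left, ⊤))
    (h : ∀ i j, i ≠ j → f i * f j = 0) (i : Fin m) : xv (pt g f h) i = f i := by
  have e : (pt g f h).left ≫ univ m T = V.left.toSpecΓ ≫ Spec.map (ringMap f h) := pullback.lift_snd _ _ _
  have e' := congrArg (fun k => k.appTop ((Scheme.ΓSpecIso (ring.{u} m)).inv (gen m i))) e
  refine (Eq.trans ?_ e').trans ?_
  · simp [xv, x, Scheme.Hom.comp_appTop]
  · simp only [Scheme.Hom.comp_appTop, Scheme.toSpecΓ_appTop]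
    change ((Scheme.ΓSpecIso (ring.{u} m)).inv ≫ (Spec.map (ringMap f h)).appTop ≫ (Scheme.ΓSpecIso _).hom).hom
      (gen m i) = f i
    rw [← Scheme.ΓSpecIso_inv_naturality_assoc, Iso.inv_hom_id, Category.comp_id, ringMap_gen]

theorem hom_ext {m : ℕ} {T V : Over S} {l l' : V ⟶ R m T} (h1 : l ≫ proj m T = l' ≫ proj m T)
    (h2 : ∀ i, xv l i = xv l' i) : l = l' := by
  refine Over.OverMorphism.ext (pullback.hom_ext (congrArg (fun k => k.left) h1) ?_)
  refine ext_to_Spec ?_
  refine ring_ext fun i => ?_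
  have := h2 i
  simp only [Scheme.Hom.comp_appTop, CommRingCat.hom_comp, RingHom.comp_apply]
  exact this

open Classical in
/-- The coordinates of the map induced by a map of index sets. -/
noncomputable def mapCoord {k m : ℕ} (T : Over S) (σ : Fin k → Fin m) : Fin m → Γ((R k T).left, ⊤) :=
  fun i => if h : ∃ j, σ j = i then x h.choose else 0

/-- The map induced by a map of index sets. -/
noncomputable def map {k m : ℕ} (T : Over S) (σ : Fin k → Fin m) : R k T ⟶ R m T :=
  pt (proj k T) (mapCoord T σ) fun i j hij => by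
    unfold mapCoord
    split_ifs with hi hj <;> try simp
    refine x_mul fun e => hij ?_
    rw [← hi.choose_spec, ← hj.choose_spec, e]

theorem map_proj {k m : ℕ} (T : Over S) (σ : Fin k → Fin m) : map T σ ≫ proj m T = proj k T := pt_proj _ _ _

theorem xv_map_of_mem {k m : ℕ} (T : Over S) {σ : Fin k → Fin m} (hσ : Function.Injective σ) (j : Fin k) :
    xv (map T σ) (σ j) = x j := by
  rw [map, xv_pt, mapCoord, dif_pos ⟨j, rfl⟩]
  exact congrArg x (hσ (Exists.choose_spec (p := fun j' => σ j' = σ j) ⟨j, rfl⟩))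

theorem xv_map_of_not {k m : ℕ} (T : Over S) (σ : Fin k → Fin m) {i : Fin m} (h : ∀ j, σ j ≠ i) :
    xv (map T σ) i = 0 := by
  rw [map, xv_pt, mapCoord, dif_neg fun ⟨j, hj⟩ => h j hj]

theorem map_comp {l k m : ℕ} (T : Over S) {τ : Fin l → Fin k} {σ : Fin k → Fin m}
    (hτ : Function.Injective τ) (hσ : Function.Injective σ) :
    map T τ ≫ map T σ = map T (σ ∘ τ) := by
  refine hom_ext (by rw [Category.assoc, map_proj, map_proj, map_proj]) fun i => ?_
  rw [xv_comp]
  by_cases hi : ∃ j, σ j = i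
  · obtain ⟨j, rfl⟩ := hi
    rw [xv_map_of_mem T hσ]
    by_cases hj : ∃ a, τ a = j
    · obtain ⟨a, rfl⟩ := hj
      exact (xv_map_of_mem T hτ a).trans (xv_map_of_mem T (hσ.comp hτ) a).symm
    · rw [xv_map_of_not T (σ ∘ τ) fun a e => hj ⟨a, hσ e⟩]
      exact xv_map_of_not T τ fun a e => hj ⟨a, e⟩
  · rw [xv_map_of_not T σ fun j e => hi ⟨j, e⟩, xv_map_of_not T (σ ∘ τ) fun a e => hi ⟨_, e⟩, map_zero]

/-- The branch of an index. -/
noncomputable def br {m : ℕ} (T : Over S) (i : Fin m) : R 1 T ⟶ R m T := map T fun _ => i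

theorem br_proj {m : ℕ} (T : Over S) (i : Fin m) : br T i ≫ proj m T = proj 1 T := map_proj _ _

theorem const_injective {m : ℕ} (i : Fin m) : Function.Injective (fun _ : Fin 1 => i) :=
  Function.injective_of_subsingleton _

theorem xv_br_self {m : ℕ} (T : Over S) (i : Fin m) : xv (br T i) i = x 0 :=
  xv_map_of_mem T (const_injective i) 0

theorem xv_br_ne {m : ℕ} (T : Over S) {i j : Fin m} (h : j ≠ i) : xv (br T i) j = 0 :=
  xv_map_of_not T _ fun _ e => h e.symm

theorem br_map {k m : ℕ} (T : Over S) {σ : Fin k → Fin m} (hσ : Function.Injective σ) (j : Fin k) :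
    br T j ≫ map T σ = br T (σ j) := map_comp T (const_injective j) hσ

/-- The retraction to a line. -/
noncomputable def retr {m : ℕ} (T : Over S) (i : Fin m) : R m T ⟶ R 1 T :=
  pt (proj m T) (fun _ => x i) fun a b h => absurd (Subsingleton.elim a b) h

theorem retr_proj {m : ℕ} (T : Over S) (i : Fin m) : retr T i ≫ proj 1 T = proj m T := pt_proj _ _ _

/-- The origin. -/
noncomputable def origin (m : ℕ) (T : Over S) : T ⟶ R m T := pt (𝟙 T) (fun _ => 0) fun _ _ _ => zero_mul _

theorem origin_proj (m : ℕ) (T : Over S) : origin m T ≫ proj m T = 𝟙 T := pt_proj _ _ _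

theorem origin_br {m : ℕ} (T : Over S) (i : Fin m) : origin 1 T ≫ br T i = origin m T := by
  refine hom_ext (by rw [Category.assoc, br_proj, origin_proj, origin_proj]) fun j => ?_
  rw [xv_comp, origin, origin, xv_pt]
  by_cases h : j = i
  · subst h
    rw [xv_br_self]
    exact xv_pt (T := T) (m := 1) (𝟙 T) (fun _ => 0) (fun _ _ _ => zero_mul _) 0
  · rw [xv_br_ne T h, map_zero]

theorem br_retr_self {m : ℕ} (T : Over S) (i : Fin m) : br T i ≫ retr T i = 𝟙 (R 1 T) := by
  refine hom_ext (by rw [Category.assoc, retr_proj, br_proj, Category.id_comp]) fun a => ?_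
  rw [xv_comp, retr, xv_pt, xv_id, Subsingleton.elim a 0]
  exact xv_br_self T i

theorem br_retr_ne {m : ℕ} (T : Over S) {i j : Fin m} (h : j ≠ i) :
    br T i ≫ retr T j = proj 1 T ≫ origin 1 T := by
  refine hom_ext (by rw [Category.assoc, retr_proj, br_proj, Category.assoc, origin_proj, Category.comp_id])
    fun a => ?_
  rw [xv_comp, xv_comp, retr, origin, xv_pt, xv_pt, map_zero]
  exact xv_br_ne T h

/-- A punctured axis. -/
noncomputable def U {m : ℕ} (T : Over S) (i : Fin m) : (R m T).left.Opens := (R m T).left.basicOpen (x i)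

/-- The union of the punctured axes. -/
noncomputable def W (m : ℕ) (T : Over S) : (R m T).left.Opens := ⨆ i, U T i

theorem preimage_U {m : ℕ} {T V : Over S} (l : V ⟶ R m T) (i : Fin m) :
    l.left ⁻¹ᵁ U T i = V.left.basicOpen (xv l i) :=
  Scheme.preimage_basicOpen_top l.left (x i)

theorem mem_W {m : ℕ} {T : Over S} {w : ↥(R m T).left} : w ∈ W m T ↔ ∃ i, w ∈ U T i :=
  TopologicalSpace.Opens.mem_iSup

theorem mem_W_one {T : Over S} {w : ↥(R 1 T).left} : w ∈ W 1 T ↔ w ∈ U T 0 :=
  mem_W.trans ⟨fun ⟨i, hi⟩ => Subsingleton.elim i 0 ▸ hi, fun h => ⟨0, h⟩⟩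

theorem U_disjoint {m : ℕ} {T : Over S} {i j : Fin m} {w : ↥(R m T).left} (hi : w ∈ U T i) (hj : w ∈ U T j) :
    i = j := by
  by_contra h
  have : w ∈ U T i ⊓ U T j := ⟨hi, hj⟩
  rw [U, U, ← Scheme.basicOpen_mul, x_mul h, Scheme.basicOpen_zero] at this
  exact this

theorem map_mem_U {k m : ℕ} (T : Over S) {σ : Fin k → Fin m} (hσ : Function.Injective σ) {j : Fin k}
    {w : ↥(R k T).left} (hw : w ∈ U T j) : (map T σ).left w ∈ U T (σ j) := by
  have : w ∈ (map T σ).left ⁻¹ᵁ U T (σ j) := by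
    rw [preimage_U, xv_map_of_mem T hσ]
    exact hw
  exact this

theorem map_W {k m : ℕ} (T : Over S) {σ : Fin k → Fin m} (hσ : Function.Injective σ) :
    Set.range ((W k T).ι ≫ (map T σ).left) ⊆ (W m T : Set ↥(R m T).left) := by
  rintro _ ⟨w, rfl⟩
  obtain ⟨j, hj⟩ := mem_W.1 w.2
  exact mem_W.2 ⟨_, map_mem_U T hσ hj⟩

theorem xv_eq_zero {m : ℕ} {T V : Over S} (l : V ⟶ R m T) {i j : Fin m} (hij : j ≠ i)
    (h : ∀ w, l.left w ∈ U T i) : xv l j = 0 := by
  have hu : IsUnit (xv l i) := by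
    refine RingedSpace.isUnit_of_isUnit_germ V.left.toRingedSpace ⊤ _ fun w hw => ?_
    have : w ∈ V.left.basicOpen (xv l i) := preimage_U l i ▸ h w
    exact (Scheme.mem_basicOpen V.left (xv l i) w hw).1 this
  exact hu.mul_right_eq_zero.1 (xv_mul l hij.symm)

theorem factor_br {m : ℕ} {T V : Over S} (l : V ⟶ R m T) (i : Fin m) (h : ∀ w, l.left w ∈ U T i) :
    (l ≫ retr T i) ≫ br T i = l ∧ Set.range (l ≫ retr T i).left ⊆ (W 1 T : Set ↥(R 1 T).left) := by
  constructor
  · refine hom_ext (by rw [Category.assoc, Category.assoc, br_proj, retr_proj]) fun j => ?_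
    rw [xv_comp]
    by_cases hj : j = i
    · subst hj
      rw [xv_br_self, ← xv_id (T := T) (m := 1) 0, ← xv_comp, Category.comp_id, xv_comp, retr, xv_pt]
      rfl
    · rw [xv_br_ne T hj, map_zero, xv_eq_zero l hj h]
  · rintro _ ⟨w, rfl⟩
    refine mem_W_one.2 ?_
    have : w ∈ (l ≫ retr T i).left ⁻¹ᵁ U T 0 := by
      rw [preimage_U, xv_comp, retr, xv_pt]
      exact preimage_U l i ▸ h w
    exact this

end Groth.Agent.IsoAutLib.Cross
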