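import Groth.Agent.IsoAutLib.AutG
import Groth.Agent.IsoAutLib.Cross
import Groth.Agent.IsoNatClean.Sep
/-!
Automorphisms on the line over a base are determined on the punctured line, when the diagonal is separated.
-/

set_option autoImplicit false
set_option backward.isDefEq.respectTransparency false
set_option backward.isDefEq.respectTransparency.types false
set_option linter.unusedSectionVars false

universe u

open CategoryTheory CategoryTheory.Limits AlgebraicGeometry

namespace Groth.Agent.IsoAutLib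

open Groth.Agent.ASt Groth.Agent.RepOne Groth.Agent.IsoNatClean

variable {S : Scheme.{u}} {𝒳 : AlgSt.Cat S} [h𝒳 : FibCat.IsFibGrpd 𝒳.p] {B : Over S}
  {y : FibCat.overCat B ⥤ᵇ 𝒳}
  (hst : Stk.IsStack (AlgSp.J S) 𝒳)
  (hd : AlgSt.RepByAlgSpWith (AlgSp.IsSeparatedMor ⊓ AlgSp.IsQuasiCompactMor)
    (FibCat.diag (FibCat.toSelf 𝒳)))

/-- Equal restrictions stay equal after restricting further. -/
theorem res_eq_of_factor {T V W : Over S} {k : T ⟶ B} {a b : AutG y k} (i : W ⟶ T) (l : V ⟶ W) (g : V ⟶ T)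
    (h : l ≫ i = g) {k' : V ⟶ B} (e : g ≫ k = k') (hab : AutG.res i rfl a = AutG.res i rfl b) :
    AutG.res g e a = AutG.res g e b := by
  subst h
  have := congrArg (AutG.res (k' := k') l (by rw [← e, Category.assoc])) hab
  rwa [AutG.res_res, AutG.res_res] at this

include hd in
/-- Automorphisms agreeing on a schematically dense affine open agree. -/
theorem ext_affine_dense {A A' : CommRingCat.{u}} (f : A ⟶ A') (hf : Function.Injective f.hom)
    (q : Spec A ⟶ S) {k : Over.mk q ⟶ B} (a b : AutG y k)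
    (h : AutG.res (Over.homMk (Spec.map f) : Over.mk (Spec.map f ≫ q) ⟶ Over.mk q) rfl a =
      AutG.res (Over.homMk (Spec.map f) : Over.mk (Spec.map f ≫ q) ⟶ Over.mk q) rfl b) : a = b := by
  let g : Over.mk (Spec.map f ≫ q) ⟶ Over.mk q := Over.homMk (Spec.map f)
  have hb : 𝒳.p.obj (y.obj (ov k)) = Over.mk q := (y.w_obj _).trans (ov_base k)
  have hb' : 𝒳.p.obj (y.obj (ov (g ≫ k))) = Over.mk (Spec.map f ≫ q) := (y.w_obj _).trans (ov_base _)
  refine AutG.ext (ext_dense hd (a.vert.trans b.vert.symm) (y.map (ovHom g rfl)) ?_ ?_)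
  · intro E e' k' he' hk
    have he'' : IsClosedImmersion (e' ≫ eqToHom hb).left := by
      change IsClosedImmersion (e'.left ≫ (eqToHom hb).left)
      infer_instance
    have hk' : (eqToHom hb'.symm ≫ k') ≫ e' ≫ eqToHom hb = g := by
      rw [Category.assoc, reassoc_of% hk, map_w, ov_p_map]
      simp
    have := isIso_of_dense f hf (e' ≫ eqToHom hb).left (eqToHom hb'.symm ≫ k').left
      (congrArg (fun m => m.left) hk')
    have : IsIso (e' ≫ eqToHom hb) :=
      have : IsIso ((Over.forget S).map (e' ≫ eqToHom hb)) := this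
      isIso_of_reflects_iso _ (Over.forget S)
    exact IsIso.of_isIso_comp_right e' (eqToHom hb)
  · rw [← AutG.res_comp, ← AutG.res_comp]
    exact congrArg (fun t => AutG.hom t ≫ _) h

theorem toSpec_map_appTop {X : Scheme.{u}} {A : CommRingCat.{u}} (φ : A ⟶ Γ(X, ⊤)) :
    (Scheme.ΓSpecIso A).inv ≫ (X.toSpecΓ ≫ Spec.map φ).appTop = φ := by
  rw [Scheme.Hom.comp_appTop, Scheme.toSpecΓ_appTop, ← Scheme.ΓSpecIso_inv_naturality_assoc,
    Iso.inv_hom_id, Category.comp_id]

theorem eq_toSpec_map {X : Scheme.{u}} {A : CommRingCat.{u}} (e : X ⟶ Spec A) :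
    X.toSpecΓ ≫ Spec.map ((Scheme.ΓSpecIso A).inv ≫ e.appTop) = e :=
  ext_to_Spec (toSpec_map_appTop _)

section Chart

variable {T : Over S} {A : CommRingCat.{u}} (h : Spec A ⟶ T.left)

/-- The polynomial ring. -/
noncomputable abbrev lineRing (A : CommRingCat.{u}) : CommRingCat.{u} := .of (Polynomial A)

/-- The inclusion of constants. -/
noncomputable abbrev lineC (A : CommRingCat.{u}) : A ⟶ lineRing A := CommRingCat.ofHom Polynomial.C

/-- The affine line over an affine scheme over the base. -/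
noncomputable abbrev lineOver : Over S := Over.mk ((Spec.map (lineC A) ≫ h) ≫ T.hom)

/-- The chart of the line given by an affine scheme over the base. -/
noncomputable def chart : lineOver h ⟶ Cross.R 1 T :=
  Cross.pt (Over.homMk (Spec.map (lineC A) ≫ h) rfl)
    (fun _ => (Scheme.ΓSpecIso (lineRing A)).inv (Polynomial.X : Polynomial A))
    fun i j hij => absurd (Subsingleton.elim i j) hij

theorem exists_factor {V : Over S} (gV : V ⟶ Cross.R 1 T) (e : V.left ⟶ Spec A)
    (hfac : e ≫ h = (gV ≫ Cross.proj 1 T).left) : ∃ l : V ⟶ lineOver h, l ≫ chart h = gV := by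
  let φ : lineRing A ⟶ Γ(V.left, ⊤) := CommRingCat.ofHom
    (Polynomial.eval₂RingHom ((Scheme.ΓSpecIso A).inv ≫ e.appTop).hom (Cross.xv gV 0))
  have hCφ : lineC A ≫ φ = (Scheme.ΓSpecIso A).inv ≫ e.appTop :=
    CommRingCat.hom_ext (RingHom.ext fun r => Polynomial.eval₂_C _ _)
  have he : V.left.toSpecΓ ≫ Spec.map φ ≫ Spec.map (lineC A) = e := by
    rw [← Spec.map_comp, hCφ, eq_toSpec_map]
  refine ⟨Over.homMk (V.left.toSpecΓ ≫ Spec.map φ) ?_, Cross.hom_ext ?_ fun i => ?_⟩
  · change (_ ≫ _) ≫ (Spec.map (lineC A) ≫ h) ≫ T.hom = V.hom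
    simp only [Category.assoc]
    rw [reassoc_of% he, reassoc_of% hfac]
    exact Over.w (gV ≫ Cross.proj 1 T)
  · rw [Category.assoc, chart, Cross.pt_proj]
    refine Over.OverMorphism.ext ?_
    change (_ ≫ _) ≫ Spec.map (lineC A) ≫ h = _
    rw [Category.assoc, reassoc_of% he, hfac]
  · rw [Cross.xv_comp, chart, Cross.xv_pt, Subsingleton.elim i 0]
    exact (RingHom.congr_fun (congrArg CommRingCat.Hom.hom (toSpec_map_appTop φ)) Polynomial.X).trans
      (Polynomial.eval₂_X _ _)

theorem chart_lands {A' : CommRingCat.{u}} (f : lineRing A ⟶ A') (hu : IsUnit (f.hom (Polynomial.X : Polynomial A)))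
    (z : Spec A') :
    ((Over.homMk (Spec.map f) : Over.mk (Spec.map f ≫ (lineOver h).hom) ⟶ lineOver h) ≫ chart h).left z ∈
      Cross.W 1 T := by
  let j : Over.mk (Spec.map f ≫ (lineOver h).hom) ⟶ lineOver h := Over.homMk (Spec.map f)
  have e : Cross.xv (j ≫ chart h) 0 = (Scheme.ΓSpecIso A').inv (f.hom Polynomial.X) := by
    rw [Cross.xv_comp, chart, Cross.xv_pt]
    exact (RingHom.congr_fun (congrArg CommRingCat.Hom.hom (Scheme.ΓSpecIso_inv_naturality f)) Polynomial.X).symm
  have hu' : IsUnit (Cross.xv (j ≫ chart h) 0) := e ▸ hu.map (Scheme.ΓSpecIso A').inv.hom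
  have hm : z ∈ (j ≫ chart h).left ⁻¹ᵁ Cross.U T 0 := by
    rw [Cross.preimage_U, Scheme.basicOpen_of_isUnit _ hu']
    trivial
  exact Cross.mem_W.2 ⟨0, hm⟩

end Chart

include hd in
/-- Restrictions to an affine chart of automorphisms agreeing on the punctured line agree. -/
theorem chart_ext {T : Over S} {A : CommRingCat.{u}} (h : Spec A ⟶ T.left) {k : Cross.R 1 T ⟶ B} {a b : AutG y k}
    (hab : AutG.res (Over.homMk (Cross.W 1 T).ι :
        Over.mk ((Cross.W 1 T).ι ≫ (Cross.R 1 T).hom) ⟶ Cross.R 1 T) rfl a =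
      AutG.res (Over.homMk (Cross.W 1 T).ι :
        Over.mk ((Cross.W 1 T).ι ≫ (Cross.R 1 T).hom) ⟶ Cross.R 1 T) rfl b) :
    AutG.res (chart h) rfl a = AutG.res (chart h) rfl b := by
  let f : lineRing A ⟶ CommRingCat.of (Localization.Away (Polynomial.X : Polynomial A)) :=
    CommRingCat.ofHom (algebraMap (Polynomial A) _)
  have hf : Function.Injective f.hom := by
    refine IsLocalization.injective (M := Submonoid.powers (Polynomial.X : Polynomial A))
      (Localization.Away (Polynomial.X : Polynomial A)) ?_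
    rw [Submonoid.powers_le]
    exact (Polynomial.monic_X).mem_nonZeroDivisors
  have hu : IsUnit (f.hom (Polynomial.X : Polynomial A)) :=
    IsLocalization.Away.algebraMap_isUnit (Polynomial.X : Polynomial A)
  refine ext_affine_dense hd f hf _ _ _ ?_
  let j : Over.mk (Spec.map f ≫ (lineOver h).hom) ⟶ lineOver h := Over.homMk (Spec.map f)
  have hr : Set.range (j ≫ chart h).left ⊆ Set.range (Cross.W 1 T).ι := by
    rintro _ ⟨z, rfl⟩
    exact ⟨⟨_, chart_lands h f hu z⟩, rfl⟩
  let lw : Over.mk (Spec.map f ≫ (lineOver h).hom) ⟶ Over.mk ((Cross.W 1 T).ι ≫ (Cross.R 1 T).hom) :=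
    Over.homMk (IsOpenImmersion.lift (Cross.W 1 T).ι (j ≫ chart h).left hr) (by
      change _ ≫ _ ≫ _ = _
      rw [IsOpenImmersion.lift_fac_assoc]
      exact Over.w (j ≫ chart h))
  rw [AutG.res_res, AutG.res_res]
  exact res_eq_of_factor (Over.homMk (Cross.W 1 T).ι :
      Over.mk ((Cross.W 1 T).ι ≫ (Cross.R 1 T).hom) ⟶ Cross.R 1 T) lw (j ≫ chart h)
    (Over.OverMorphism.ext (IsOpenImmersion.lift_fac _ _ _)) (k' := j ≫ chart h ≫ k) (Category.assoc _ _ _) hab

include hst hd in
/-- Automorphisms on the line agreeing on the punctured line agree. -/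
theorem line_ext {T : Over S} {k : Cross.R 1 T ⟶ B} {a b : AutG y k}
    (h : AutG.res (Over.homMk (Cross.W 1 T).ι :
        Over.mk ((Cross.W 1 T).ι ≫ (Cross.R 1 T).hom) ⟶ Cross.R 1 T) rfl a =
      AutG.res (Over.homMk (Cross.W 1 T).ι :
        Over.mk ((Cross.W 1 T).ι ≫ (Cross.R 1 T).hom) ⟶ Cross.R 1 T) rfl b) : a = b := by
  refine AutG.ext_cover hst fun w => ?_
  obtain ⟨U, hU, hwU, -⟩ := exists_isAffineOpen_mem_and_subset (U := ⊤)
    (show (Cross.proj 1 T).left w ∈ (⊤ : T.left.Opens) from trivial)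
  let V : (Cross.R 1 T).left.Opens := (Cross.proj 1 T).left ⁻¹ᵁ U
  refine ⟨V, hwU, ?_⟩
  let iV : Over.mk (V.ι ≫ (Cross.R 1 T).hom) ⟶ Cross.R 1 T := Over.homMk V.ι
  obtain ⟨l, hl⟩ := exists_factor hU.fromSpec iV (((Cross.proj 1 T).left ∣_ U) ≫ hU.isoSpec.hom) (by
    rw [Category.assoc, IsAffineOpen.isoSpec_hom_fromSpec, morphismRestrict_ι]
    rfl)
  exact res_eq_of_factor (chart hU.fromSpec) l iV hl rfl (chart_ext hd hU.fromSpec h)

end Groth.Agent.IsoAutLib
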