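import Groth.Agent.IsoAutLib.AutG
import Groth.Agent.ASt.Pts
/-!
Objects glued from two sheets along an open by an automorphism, and their classes.
-/

set_option autoImplicit false
set_option backward.isDefEq.respectTransparency false
set_option backward.isDefEq.respectTransparency.types false
set_option linter.unusedSectionVars false

universe u

open CategoryTheory AlgebraicGeometry

namespace Groth.Agent.IsoAutLib

open Groth.Agent.ASt Groth.Agent.RepOne Groth.Agent.IsoNatClean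

variable {S : Scheme.{u}}

/-- Two copies of a scheme glued along an open, over a base. -/
structure Doubled (B : Over S) where
  /-- a sheet -/
  R : Over S
  /-- the glued scheme -/
  X : Over S
  /-- the sheet over the base -/
  r : R ⟶ B
  /-- the glued scheme over the base -/
  ρ : X ⟶ B
  /-- the common open -/
  W : R.left.Opens
  /-- the two sheets -/
  i : Bool → (R ⟶ X)
  hi : ∀ s, i s ≫ ρ = r
  open_i : ∀ s, IsOpenImmersion (i s).left
  cover : ∀ x : ↥X.left, ∃ s a, (i s).left a = x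
  meet : ∀ a b : ↥R.left, (i false).left a = (i true).left b → a = b ∧ a ∈ W
  agree : W.ι ≫ (i false).left = W.ι ≫ (i true).left

namespace Doubled

variable {B : Over S} (D : Doubled B)

instance (s : Bool) : IsOpenImmersion (D.i s).left := D.open_i s

instance (s : Bool) : Mono (D.i s) := Over.mono_of_mono_left _

/-- The common open over the base scheme. -/
noncomputable abbrev Wo : Over S := Over.mk (D.W.ι ≫ D.R.hom)

/-- Its inclusion. -/
noncomputable abbrev ιW : D.Wo ⟶ D.R := Over.homMk D.W.ι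

theorem agree' : D.ιW ≫ D.i false = D.ιW ≫ D.i true := Over.OverMorphism.ext D.agree

/-- The lift of a morphism landing in the common open. -/
noncomputable def liftW {V : Over S} (L : V ⟶ D.R) (h : Set.range L.left ⊆ (D.W : Set ↥D.R.left)) : V ⟶ D.Wo :=
  Over.homMk (IsOpenImmersion.lift D.W.ι L.left (fun x hx => ⟨⟨x, h hx⟩, rfl⟩)) (by
    change _ ≫ D.W.ι ≫ D.R.hom = _
    rw [IsOpenImmersion.lift_fac_assoc]
    exact Over.w L)

theorem liftW_fac {V : Over S} (L : V ⟶ D.R) (h : Set.range L.left ⊆ (D.W : Set ↥D.R.left)) :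
    D.liftW L h ≫ D.ιW = L :=
  Over.OverMorphism.ext (IsOpenImmersion.lift_fac _ _ _)

theorem lifts_eq {V : Over S} {s s' : Bool} {L L' : V ⟶ D.R} (h : L ≫ D.i s = L' ≫ D.i s') :
    L = L' ∧ (s ≠ s' → Set.range L.left ⊆ (D.W : Set ↥D.R.left)) := by
  rcases eq_or_ne s s' with rfl | hs
  · exact ⟨(cancel_mono (D.i s)).1 h, fun h => absurd rfl h⟩
  · have hp : ∀ (L L' : V ⟶ D.R), L ≫ D.i false = L' ≫ D.i true → L = L' ∧
        Set.range L.left ⊆ (D.W : Set ↥D.R.left) := fun L L' h => by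
      have hr : Set.range L.left ⊆ (D.W : Set ↥D.R.left) := by
        rintro _ ⟨a, rfl⟩
        exact (D.meet _ _ (congrArg (fun m => m.left a) h)).2
      refine ⟨(cancel_mono (D.i true)).1 ?_, hr⟩
      rw [← h]
      conv_lhs => rw [← D.liftW_fac L hr, Category.assoc, ← D.agree', ← Category.assoc, D.liftW_fac L hr]
    rcases s with _ | _ <;> rcases s' with _ | _
    · exact absurd rfl hs
    · exact ⟨(hp L L' h).1, fun _ => (hp L L' h).2⟩
    · obtain ⟨e, hr⟩ := hp L' L h.symm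
      exact ⟨e.symm, fun _ => e ▸ hr⟩
    · exact absurd rfl hs

variable {𝒳 : AlgSt.Cat S} [h𝒳 : FibCat.IsFibGrpd 𝒳.p] {y : FibCat.overCat B ⥤ᵇ 𝒳}

open Classical in
/-- An automorphism on the common open read on a morphism to a sheet. -/
noncomputable def cW (c : AutG y (D.ιW ≫ D.r)) {V : Over S} (L : V ⟶ D.R) {k : V ⟶ B} (hk : L ≫ D.r = k) :
    AutG y k :=
  if h : Set.range L.left ⊆ (D.W : Set ↥D.R.left) then
    AutG.res (D.liftW L h) (by rw [← Category.assoc, D.liftW_fac, hk]) c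
  else 1

/-- The transition between two sheets. -/
noncomputable def γ (c : AutG y (D.ιW ≫ D.r)) (s s' : Bool) {V : Over S} (L : V ⟶ D.R) {k : V ⟶ B}
    (hk : L ≫ D.r = k) : AutG y k :=
  bif s then (bif s' then 1 else (D.cW c L hk)⁻¹) else (bif s' then D.cW c L hk else 1)

theorem γ_mul (c : AutG y (D.ιW ≫ D.r)) (s s' s'' : Bool) {V : Over S} (L : V ⟶ D.R) {k : V ⟶ B}
    (hk : L ≫ D.r = k) : D.γ c s s' L hk * D.γ c s' s'' L hk = D.γ c s s'' L hk := by
  rcases s with _ | _ <;> rcases s' with _ | _ <;> rcases s'' with _ | _ <;> simp [γ]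

theorem γ_self (c : AutG y (D.ιW ≫ D.r)) (s : Bool) {V : Over S} (L : V ⟶ D.R) {k : V ⟶ B}
    (hk : L ≫ D.r = k) : D.γ c s s L hk = 1 := by
  rcases s with _ | _ <;> rfl

theorem res_γ (c : AutG y (D.ιW ≫ D.r)) (s s' : Bool) {V V' : Over S} (L : V ⟶ D.R) {k : V ⟶ B}
    (hk : L ≫ D.r = k) (g : V' ⟶ V) {k' : V' ⟶ B} (e : g ≫ k = k') (L' : V' ⟶ D.R) (hL' : g ≫ L = L')
    (hland : s ≠ s' → Set.range L.left ⊆ (D.W : Set ↥D.R.left)) :
    AutG.res g e (D.γ c s s' L hk) = D.γ c s s' L' (by rw [← hL', Category.assoc, hk, e]) := by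
  subst hL'
  rcases eq_or_ne s s' with rfl | hs
  · rw [D.γ_self, D.γ_self, AutG.res_one]
  have hc : AutG.res g e (D.cW c L hk) = D.cW c (g ≫ L) (by rw [Category.assoc, hk, e]) := by
    have h := hland hs
    have h' : Set.range (g ≫ L).left ⊆ (D.W : Set ↥D.R.left) := by
      rintro _ ⟨a, rfl⟩
      exact h ⟨g.left a, rfl⟩
    rw [cW, cW, dif_pos h, dif_pos h', AutG.res_res]
    refine AutG.res_congr ((cancel_mono D.ιW).1 ?_) _ _
    rw [Category.assoc, D.liftW_fac, D.liftW_fac]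
  rcases s with _ | _ <;> rcases s' with _ | _
  · exact absurd rfl hs
  · exact hc
  · exact (AutG.res_inv _ _ _).trans (congrArg (·⁻¹) hc)
  · exact absurd rfl hs

instance : Mono D.ιW := Over.mono_of_mono_left _

/-- An object over the glued scheme glued from two values by an automorphism. -/
structure Twisted (c : AutG y (D.ιW ≫ D.r)) where
  /-- the object -/
  pt : 𝒳.obj
  base : 𝒳.p.obj pt = D.X
  /-- the trivialisations on the sheets -/
  J : Bool → (y.obj (ov D.r) ⟶ pt)
  map_J : ∀ s, 𝒳.p.map (J s) = eqToHom ((y.w_obj (ov D.r)).trans (ov_base _)) ≫ D.i s ≫ eqToHom base.symm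
  rel : y.map (ovHom D.ιW (rfl : D.ιW ≫ D.r = _)) ≫ J false =
    c.hom ≫ y.map (ovHom D.ιW (rfl : D.ιW ≫ D.r = _)) ≫ J true

/-- The class of a twisted object. -/
noncomputable def Twisted.el {c : AutG y (D.ιW ≫ D.r)} (P : D.Twisted c) : ClType 𝒳 D.X := cl P.pt P.base

theorem rel_cW {c : AutG y (D.ιW ≫ D.r)} (P : D.Twisted c) {V : Over S} (L : V ⟶ D.R) {k : V ⟶ B}
    (hk : L ≫ D.r = k) (h : Set.range L.left ⊆ (D.W : Set ↥D.R.left)) :
    y.map (ovHom L hk) ≫ P.J false = (D.cW c L hk).hom ≫ y.map (ovHom L hk) ≫ P.J true := by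
  have hl : D.liftW L h ≫ D.ιW ≫ D.r = k := by rw [← Category.assoc, D.liftW_fac, hk]
  have e : ovHom L hk = ovHom (D.liftW L h) hl ≫ ovHom D.ιW rfl := Over.OverMorphism.ext (D.liftW_fac L h).symm
  rw [cW, dif_pos h, e, Functor.map_comp, Category.assoc, P.rel, Category.assoc, AutG.res_comp_assoc]

theorem rel_γ {c : AutG y (D.ιW ≫ D.r)} (P : D.Twisted c) (s s' : Bool) {V : Over S} (L : V ⟶ D.R) {k : V ⟶ B}
    (hk : L ≫ D.r = k) (h : s ≠ s' → Set.range L.left ⊆ (D.W : Set ↥D.R.left)) :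
    y.map (ovHom L hk) ≫ P.J s = (D.γ c s s' L hk).hom ≫ y.map (ovHom L hk) ≫ P.J s' := by
  rcases eq_or_ne s s' with rfl | hs
  · rw [D.γ_self, AutG.one_hom, Category.id_comp]
  rcases s with _ | _ <;> rcases s' with _ | _
  · exact absurd rfl hs
  · exact D.rel_cW P L hk (h hs)
  · change _ = inv (D.cW c L hk).hom ≫ _
    rw [D.rel_cW P L hk (h hs), IsIso.inv_hom_id_assoc]
  · exact absurd rfl hs

/-- The sieve of morphisms through a sheet. -/
def sieve : Sieve D.X where
  arrows V g := ∃ (s : Bool) (L : V ⟶ D.R), L ≫ D.i s = g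
  downward_closed := fun {V V'} g ⟨s, L, hL⟩ k => ⟨s, k ≫ L, by rw [Category.assoc, hL]⟩

theorem sieve_mem : D.sieve ∈ (AlgSp.J S) D.X := mem_J_of_opens D.sieve fun w => by
  obtain ⟨s, a, ha⟩ := D.cover w
  refine ⟨(D.i s).left.opensRange, ⟨a, ha⟩, s, Over.homMk
    (IsOpenImmersion.lift (D.i s).left (D.i s).left.opensRange.ι (by rintro _ ⟨z, rfl⟩; exact z.2)) ?_,
    Over.OverMorphism.ext (IsOpenImmersion.lift_fac _ _ _)⟩
  change _ = (D.i s).left.opensRange.ι ≫ D.X.hom
  conv_lhs => rw [← Over.w (D.i s)]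
  rw [IsOpenImmersion.lift_fac_assoc]

/-- The members of the sieve. -/
abbrev Mem := (Stk.sieveCat D.sieve).obj

/-- The chosen sheet of a member. -/
noncomputable def side (t : D.Mem) : Bool := t.property.choose

/-- The chosen lift of a member. -/
noncomputable def lift (t : D.Mem) : t.obj.left ⟶ D.R := t.property.choose_spec.choose

theorem lift_fac (t : D.Mem) : D.lift t ≫ D.i (D.side t) = t.obj.hom := t.property.choose_spec.choose_spec

theorem lift_r (t : D.Mem) : D.lift t ≫ D.r = t.obj.hom ≫ D.ρ := by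
  rw [← D.lift_fac t, Category.assoc, D.hi]

theorem lift_comp {t t' : D.Mem} (m : t ⟶ t') : D.lift t = m.hom.left ≫ D.lift t' ∧
    (D.side t ≠ D.side t' → Set.range (D.lift t).left ⊆ (D.W : Set ↥D.R.left)) := by
  refine D.lifts_eq ?_
  rw [D.lift_fac, Category.assoc, D.lift_fac]
  exact (Over.w m.hom).symm

variable (c : AutG y (D.ιW ≫ D.r))

/-- The gluing datum. -/
noncomputable def datum : Stk.sieveCat D.sieve ⥤ᵇ 𝒳 where
  toFunctor :=
    { obj := fun t => y.obj (ov (t.obj.hom ≫ D.ρ))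
      map := fun {t t'} m => (D.γ c (D.side t) (D.side t') (D.lift t) (D.lift_r t)).hom ≫
        y.map (ovHom m.hom.left (by rw [← Category.assoc, Over.w m.hom]))
      map_id := fun t => by
        rw [D.γ_self, AutG.one_hom, Category.id_comp, ← CategoryTheory.Functor.map_id]
        congr 1
      map_comp := fun {t t' t''} m n => by
        have h1 := (D.lift_comp m).1
        simp only [Category.assoc]
        rw [← AutG.res_comp_assoc, ← Functor.map_comp,
          D.res_γ c _ _ (D.lift t') (D.lift_r t') m.hom.left _ (D.lift t) h1.symm (D.lift_comp n).2,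
          ← D.γ_mul c (D.side t) (D.side t') (D.side t''), AutG.mul_hom, Category.assoc]
        congr 3 }
  w := CategoryTheory.Functor.ext (F := _ ⋙ 𝒳.p) (G := (Stk.sieveCat D.sieve).p)
    (fun t => (y.w_obj _).trans (ov_base _)) (fun t t' m => by
      simp [AutG.vert, map_w, ov_p_map]
      rfl)

/-- A twisted object is a cone of the datum. -/
noncomputable def Twisted.cone {D : Doubled B} {c : AutG y (D.ιW ≫ D.r)} (P : D.Twisted c) :
    SCone (D.datum c) where
  pt := P.pt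
  base := P.base
  ι t := y.map (ovHom (D.lift t) (D.lift_r t)) ≫ P.J (D.side t)
  map_ι t := by
    simp [map_w, ov_p_map, P.map_J, datum]
    exact congrArg (eqToHom _ ≫ ·) ((Category.assoc _ _ _).symm.trans (congrArg (· ≫ eqToHom _) (D.lift_fac t)))
  nat {t t'} m := by
    obtain ⟨h1, h2⟩ := D.lift_comp m
    change (_ ≫ _) ≫ _ ≫ _ = _
    rw [Category.assoc, ← Category.assoc (y.map _) (y.map _), ← Functor.map_comp]
    rw [D.rel_γ P (D.side t) (D.side t') (D.lift t) (D.lift_r t) h2]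
    congr 3
    exact Over.OverMorphism.ext h1.symm

variable (hst : Stk.IsStack (AlgSp.J S) 𝒳)

include hst in
/-- Twisted objects exist. -/
theorem exists_twisted : Nonempty (D.Twisted c) := by
  obtain ⟨k⟩ := (isStack_iff.1 hst D.sieve D.sieve_mem).2 (D.datum c)
  let mem : Bool → D.Mem := fun s => ⟨Over.mk (D.i s), s, 𝟙 _, Category.id_comp _⟩
  have hmem : ∀ s, (𝟙 D.R : D.R ⟶ D.R) = D.lift (mem s) ∧
      (s ≠ D.side (mem s) → Set.range (𝟙 D.R : D.R ⟶ D.R).left ⊆ (D.W : Set ↥D.R.left)) := fun s => by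
    refine D.lifts_eq ?_
    rw [D.lift_fac, Category.id_comp]
    rfl
  let J : Bool → (y.obj (ov D.r) ⟶ k.pt) := fun s =>
    (D.γ c s (D.side (mem s)) (𝟙 D.R) (Category.id_comp D.r)).hom ≫
      y.map (ovHom (𝟙 D.R) ((Category.id_comp _).trans (D.hi s)) : ov D.r ⟶ ov ((mem s).obj.hom ≫ D.ρ)) ≫
        k.ι (mem s)
  let w : D.Mem := ⟨Over.mk (D.ιW ≫ D.i false), false, D.ιW, rfl⟩
  have key : ∀ s, y.map (ovHom D.ιW (rfl : D.ιW ≫ D.r = _)) ≫ J s =
      (D.γ c s (D.side w) D.ιW rfl).hom ≫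
        y.map (ovHom (𝟙 D.Wo) (show 𝟙 _ ≫ (D.ιW ≫ D.i false) ≫ D.ρ = D.ιW ≫ D.r by
          rw [Category.id_comp, Category.assoc, D.hi])) ≫ k.ι w := fun s => by
    have hw : D.lift w = D.ιW :=
      (D.lifts_eq (s := D.side w) (s' := false) (L := D.lift w) (L' := D.ιW) (D.lift_fac w)).1
    let m : w ⟶ mem s := ObjectProperty.homMk (Over.homMk D.ιW (by
      change D.ιW ≫ D.i s = D.ιW ≫ D.i false
      rcases s with _ | _
      · rfl
      · exact D.agree'.symm))
    have hn : _ = k.ι w := k.nat m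
    change (_ ≫ _) ≫ _ = _ at hn
    rw [← hn]
    simp only [J, ← Category.assoc]
    rw [← AutG.res_comp, D.res_γ c s _ (𝟙 D.R) _ D.ιW rfl D.ιW (Category.comp_id _) (hmem s).2]
    simp only [Category.assoc]
    have e2 := D.γ_mul c s (D.side w) (D.side (mem s)) D.ιW (rfl : D.ιW ≫ D.r = _)
    rw [← e2, AutG.mul_hom, Category.assoc, ← AutG.res_comp_assoc]
    congr 1
    rw [D.res_γ c _ _ (D.lift w) _ (𝟙 D.Wo) _ D.ιW (by rw [hw, Category.id_comp]) (D.lift_comp m).2]
    congr 1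
    simp only [← Category.assoc, ← Functor.map_comp]
    congr 2
  refine ⟨⟨k.pt, k.base, J, fun s => ?_, ?_⟩⟩
  · simp [J, AutG.vert, map_w, ov_p_map, k.map_ι, mem, datum]
    erw [Category.id_comp]
  · rw [key false, key true, ← Category.assoc (AutG.hom c)]
    congr 1
    rw [← D.γ_mul c false true (D.side w), AutG.mul_hom]
    congr 1
    change (D.cW c D.ιW rfl).hom = c.hom
    have h : Set.range D.ιW.left ⊆ (D.W : Set ↥D.R.left) := by
      rintro _ ⟨a, rfl⟩
      exact a.2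
    rw [cW, dif_pos h, AutG.res_congr (show D.liftW D.ιW h = 𝟙 _ from
      (cancel_mono D.ιW).1 ((D.liftW_fac _ h).trans (Category.id_comp _).symm)), AutG.res_id]

include hst in
/-- Morphisms out of a twisted object are given on the sheets. -/
theorem exists_hom (P : D.Twisted c) (P' : D.Twisted c) :
    ∃ h : P.pt ⟶ P'.pt, 𝒳.p.map h = eqToHom (P.base.trans P'.base.symm) ∧ ∀ s, P.J s ≫ h = P'.J s := by
  obtain ⟨h, ⟨hb, hι⟩, -⟩ := (isStack_iff.1 hst D.sieve D.sieve_mem).1 (D.datum c) P.cone P'.cone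
  refine ⟨h, hb, fun s => ?_⟩
  let t : D.Mem := ⟨Over.mk (D.i s), s, 𝟙 _, Category.id_comp _⟩
  obtain ⟨e, hl⟩ := D.lifts_eq (s := s) (s' := D.side t) (L := 𝟙 D.R) (L' := D.lift t)
    (by rw [D.lift_fac, Category.id_comp]; rfl)
  have hk : 𝟙 D.R ≫ D.r = t.obj.hom ≫ D.ρ := (Category.id_comp _).trans (D.hi s).symm
  have hk' : 𝟙 D.R ≫ t.obj.hom ≫ D.ρ = D.r := (Category.id_comp _).trans (D.hi s)
  have he : y.map (ovHom (𝟙 D.R) hk') ≫ y.map (ovHom (𝟙 D.R) hk) = 𝟙 (y.obj (ov D.r)) := by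
    rw [← Functor.map_comp, show ovHom (𝟙 D.R) hk' ≫ ovHom (𝟙 D.R) hk = 𝟙 (ov D.r) from
      Over.OverMorphism.ext (Category.id_comp _), CategoryTheory.Functor.map_id]
  rw [← Category.id_comp (P.J s), ← Category.id_comp (P'.J s), ← he, Category.assoc, Category.assoc, Category.assoc,
    ← Category.assoc (y.map (ovHom (𝟙 D.R) hk)) (P.J s), D.rel_γ P s (D.side t) _ hk hl, D.rel_γ P' s (D.side t) _ hk hl,
    Category.assoc, Category.assoc]
  congr 2
  have := hι t
  change (y.map _ ≫ _) ≫ h = y.map _ ≫ _ at this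
  rw [Category.assoc] at this
  have hh : ovHom (𝟙 D.R) hk = ovHom (D.lift t) (D.lift_r t) := Over.OverMorphism.ext e
  rw [hh]
  exact this

end Doubled

end Groth.Agent.IsoAutLib
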